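import Cfsg.Agent.Lib.SL2Module.Bilinear
import Cfsg.Agent.Lib.PSL2.Basic
import Cfsg.Agent.Lib.PGroup.Basic
import Cfsg.Agent.Lib.Solvable.Basic

/-!
Higman: a normal `2`-subgroup `Q` with `G/Q ≅ SL₂(2ⁿ)`, `n ≥ 2`, and an element of order three without
fixed points on `Q`, is elementary abelian (`elementary_of_fpf`); `repOf`, `rel_repOf` for its module.
-/

set_option autoImplicit false
set_option linter.unusedSectionVars false

namespace Cfsg.Agent.SL2Module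

universe u

variable {K : Type*} [Field K] [CharP K 2]

theorem trace_eq_one_of_order_three {g : Matrix.SpecialLinearGroup (Fin 2) K} (h3 : g ^ 3 = 1) (h1 : g ≠ 1) :
    Matrix.trace g.1 = 1 := by
  rw [Matrix.trace_fin_two]
  set t := g.1 0 0 + g.1 1 1 with ht
  have hsq : g.1 * g.1 = t • g.1 - 1 := PSL2.coe_sq g
  have hcube : (t * t - 1) • g.1 = (1 + t) • (1 : Matrix (Fin 2) (Fin 2) K) := by
    have h : g.1 * g.1 * g.1 = 1 := by
      have := congrArg Subtype.val h3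
      rwa [pow_succ, pow_two] at this
    rw [hsq, sub_mul, one_mul, Matrix.smul_mul, hsq, smul_sub, smul_smul] at h
    rw [sub_smul, one_smul, add_smul, one_smul, ← sub_eq_zero]
    calc (t * t) • g.1 - g.1 - (1 + t • (1 : Matrix (Fin 2) (Fin 2) K))
        = ((t * t) • g.1 - t • (1 : Matrix (Fin 2) (Fin 2) K) - g.1) - 1 := by abel
      _ = 0 := by rw [h, sub_self]
  have e01 := congrFun (congrFun hcube 0) 1
  have e10 := congrFun (congrFun hcube 1) 0
  have e00 := congrFun (congrFun hcube 0) 0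
  have e11 := congrFun (congrFun hcube 1) 1
  simp at e01 e10 e00 e11
  have hdet : g.1 0 0 * g.1 1 1 - g.1 0 1 * g.1 1 0 = 1 := PSL2.det_eq g
  by_cases hc : t * t - 1 = 0
  · have : (t + 1) * (t + 1) = 0 := by
      linear_combination (norm := ring_nf) hc + (t + 1) * two_eq_zero (K := K)
    exact CharTwo.add_eq_zero.1 (mul_self_eq_zero.1 this)
  exfalso
  have h01 : g.1 0 1 = 0 := e01.resolve_left hc
  have h10 : g.1 1 0 = 0 := e10.resolve_left hc
  have hdiag : g.1 1 1 = g.1 0 0 := mul_left_cancel₀ hc (e11.trans e00.symm)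
  rw [h01, zero_mul, sub_zero, hdiag] at hdet
  have ha : g.1 0 0 = 1 := by
    have : (g.1 0 0 + 1) * (g.1 0 0 + 1) = 0 := by
      linear_combination (norm := ring_nf) hdet + (g.1 0 0 + 1) * two_eq_zero (K := K)
    exact CharTwo.add_eq_zero.1 (mul_self_eq_zero.1 this)
  refine h1 (Subtype.ext ?_)
  show g.1 = 1
  ext i j
  fin_cases i <;> fin_cases j <;> simp [h01, h10, hdiag, ha]

variable [Finite K]

/-- If one trace one element has no fixed point but zero, then `Rel` holds. -/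
theorem rel_of_fpf {M : Type*} [AddCommGroup M] {ρ : Matrix.SpecialLinearGroup (Fin 2) K →* AddMonoid.End M}
    {y : Matrix.SpecialLinearGroup (Fin 2) K} (h3 : y ^ 3 = 1) (h1 : y ≠ 1)
    (hfix : ∀ m, ρ y m = m → m = 0) : Rel ρ := by
  have hy : ∀ m, ρ y (ρ y m) + ρ y m + m = 0 := by
    intro m
    refine hfix _ ?_
    have hy3 : ρ y (ρ y (ρ y m)) = m := by
      rw [← app_mul, ← app_mul, show y * y * y = 1 by rw [← h3, pow_succ, pow_two], app_one]
    rw [map_add, map_add, hy3]; abel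
  intro g hg m
  obtain ⟨c, rfl⟩ := exists_conj_of_trace_one (trace_eq_one_of_order_three h3 h1) hg
  have h := congrArg (ρ c) (hy (ρ c⁻¹ m))
  rw [map_zero, map_add, map_add] at h
  have hc : ρ c (ρ c⁻¹ m) = m := by rw [← app_mul, mul_inv_cancel, app_one]
  rw [hc] at h
  simp only [app_mul]
  rwa [show ρ c⁻¹ (ρ c (ρ y (ρ c⁻¹ m))) = ρ y (ρ c⁻¹ m) by rw [← app_mul ρ c⁻¹, inv_mul_cancel, app_one]]

/-- A homomorphism to automorphisms of an abelian group, additively. -/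
noncomputable def addRep {S C : Type*} [Group S] [CommGroup C] (α : S →* MulAut C) :
    S →* AddMonoid.End (Additive C) where
  toFun g := MonoidHom.toAdditive (α g).toMonoidHom
  map_one' := AddMonoidHom.ext fun a => by
    show Additive.ofMul (α 1 a.toMul) = a
    rw [map_one]; rfl
  map_mul' g h := AddMonoidHom.ext fun a => by
    show Additive.ofMul (α (g * h) a.toMul) = Additive.ofMul (α g (α h a.toMul))
    rw [map_mul]; rfl

variable {G : Type u} [Group G] (Q A : Subgroup G) [Q.Normal] [A.Normal]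

/-- The action of `G ⧸ Q` on a normal subgroup centralised by `Q`. -/
noncomputable def quotAct (hQA : Q ≤ Subgroup.centralizer (A : Set G)) : G ⧸ Q →* MulAut ↥A :=
  QuotientGroup.lift Q MulAut.conjNormal fun q hq => MonoidHom.mem_ker.2 <| MulEquiv.ext fun a =>
    Subtype.ext (by
      rw [MulAut.conjNormal_apply, ← (hQA hq) a a.2, mul_inv_cancel_right]
      rfl)

theorem quotAct_mk (hQA : Q ≤ Subgroup.centralizer (A : Set G)) (g : G) (a : ↥A) :
    ((quotAct Q A hQA (g : G ⧸ Q) a : ↥A) : G) = g * a * g⁻¹ := MulAut.conjNormal_apply g a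

/-- `↥A` as a commutative group. -/
@[reducible]
def commGroupOf {H : Type*} [Group H] (B : Subgroup H) (hB : ∀ a ∈ B, ∀ b ∈ B, a * b = b * a) : CommGroup ↥B :=
  { (inferInstance : Group ↥B) with mul_comm := fun a b => Subtype.ext (hB a a.2 b b.2) }

omit [CharP K 2] in
/-- Orders of quotient data. -/
theorem not_mem_of_isPGroup {x : G} (hQ : IsPGroup 2 ↥Q) (hx : orderOf x = 3) : x ∉ Q := by
  intro hxQ
  obtain ⟨k, hk⟩ := hQ ⟨x, hxQ⟩
  have h : orderOf x ∣ 2 ^ k := orderOf_dvd_of_pow_eq_one (congrArg Subtype.val hk)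
  rw [hx] at h
  exact absurd (Nat.Prime.dvd_of_dvd_pow Nat.prime_three h) (by decide)

variable [Finite G]

/-- Higman's theorem, first part. -/
theorem elementary_of_fpf (hK : 4 ≤ Nat.card K) : ∀ (n : ℕ) (G : Type u) [Group G] [Finite G] (Q : Subgroup G)
    [Q.Normal] (_ : Nat.card G = n) (_ : IsPGroup 2 ↥Q)
    (_ : G ⧸ Q ≃* Matrix.SpecialLinearGroup (Fin 2) K) (x : G) (_ : orderOf x = 3)
    (_ : ∀ q ∈ Q, x * q * x⁻¹ = q → q = 1),
    (∀ a ∈ Q, ∀ b ∈ Q, a * b = b * a) ∧ ∀ a ∈ Q, a * a = 1 := by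
  intro n
  induction n using Nat.strong_induction_on with
  | _ n ih =>
  intro G _ _ Q _ hn hQ e x hx hfpf
  have : Fact (Nat.Prime 2) := ⟨Nat.prime_two⟩
  by_cases hQ1 : Q = ⊥
  · subst hQ1
    exact ⟨fun a ha b hb => by rw [Subgroup.mem_bot.1 ha, Subgroup.mem_bot.1 hb],
      fun a ha => by rw [Subgroup.mem_bot.1 ha, one_mul]⟩
  obtain ⟨Z, hZn, hZ1, hZQ, hmin⟩ := Solvable.exists_minimal_normal hQ1
  have hQZ : Q ≤ Subgroup.centralizer (Z : Set G) := by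
    have hn' : (Z.subgroupOf Q).Normal := hZn.subgroupOf Q
    obtain ⟨⟨z, hz⟩, hz1⟩ := (Subgroup.ne_bot_iff_exists_ne_one).1 (PGroup.inf_center_ne_bot hQ
      (N := Z.subgroupOf Q) fun h => hZ1 (by
        rw [Subgroup.subgroupOf_eq_bot] at h
        exact h.eq_bot_of_le hZQ))
    rcases hmin (Z ⊓ Subgroup.centralizer (Q : Set G)) inferInstance inf_le_left with h | h
    · refine absurd (Subtype.ext (Subtype.ext ?_)) hz1
      have hmem : (z : G) ∈ Z ⊓ Subgroup.centralizer (Q : Set G) :=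
        ⟨hz.1, fun q hq => congrArg Subtype.val (Subgroup.mem_center_iff.1 hz.2 ⟨q, hq⟩)⟩
      rw [h] at hmem
      exact Subgroup.mem_bot.1 hmem
    · exact Subgroup.le_centralizer_iff.1 (inf_eq_left.1 h)
  have hZc : ∀ a ∈ Z, ∀ b ∈ Z, a * b = b * a := fun a ha b hb => (hQZ (hZQ hb)) a ha
  have hZ2 : ∀ a ∈ Z, a * a = 1 := by
    let X : Subgroup G :=
      { carrier := {a | a ∈ Z ∧ a * a = 1}
        one_mem' := ⟨Z.one_mem, mul_one 1⟩
        mul_mem' := fun {a b} ha hb => ⟨Z.mul_mem ha.1 hb.1, by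
          rw [Commute.mul_mul_mul_comm (show Commute b a from hZc b hb.1 a ha.1), ha.2, hb.2, one_mul]⟩
        inv_mem' := fun {a} ha => ⟨Z.inv_mem ha.1, by rw [← mul_inv_rev, ha.2, inv_one]⟩ }
    have hXn : X.Normal := ⟨fun a ha g => ⟨hZn.conj_mem a ha.1 g, by rw [conj_mul, ha.2, mul_one, mul_inv_cancel]⟩⟩
    rcases hmin X hXn (fun a ha => ha.1) with h | h
    · exfalso
      obtain ⟨⟨z, hz⟩, hz1⟩ := (Subgroup.ne_bot_iff_exists_ne_one).1 hZ1
      obtain ⟨k, hk⟩ := hQ ⟨z, hZQ hz⟩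
      replace hk : z ^ (2 ^ k) = 1 := congrArg Subtype.val hk
      have key : ∀ (k : ℕ) (z : G), z ∈ Z → z ^ (2 ^ k) = 1 → z = 1 := by
        intro k
        induction k with
        | zero => intro z _ h; rwa [pow_zero, pow_one] at h
        | succ k ihk =>
          intro z hz hk
          have hzz : z * z = 1 := ihk (z * z) (Z.mul_mem hz hz) (by rw [← pow_two, ← pow_mul, ← pow_succ']; exact hk)
          exact Subgroup.mem_bot.1 (h ▸ (⟨hz, hzz⟩ : z ∈ X))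
      exact hz1 (Subtype.ext (key k z hz hk))
    · exact fun a ha => ((h.ge ha : a ∈ X)).2
  -- the quotient by `Z`
  set π := QuotientGroup.mk' Z
  set Qb := Q.map π with hQb
  have hQbn : Qb.Normal := Subgroup.Normal.map inferInstance π (QuotientGroup.mk'_surjective Z)
  let eb : (G ⧸ Z) ⧸ Qb ≃* Matrix.SpecialLinearGroup (Fin 2) K :=
    (QuotientGroup.quotientQuotientEquivQuotient Z Q hZQ).trans e
  have hxQ : x ∉ Q := not_mem_of_isPGroup Q hQ hx
  have hxb : orderOf (π x) = 3 := by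
    have := Fact.mk Nat.prime_three
    refine orderOf_eq_prime ?_ fun h => hxQ (hZQ ((QuotientGroup.eq_one_iff x).1 h))
    rw [← map_pow, ← hx, pow_orderOf_eq_one, map_one]
  have hfb : ∀ q ∈ Qb, π x * q * (π x)⁻¹ = q → q = 1 := by
    rintro _ ⟨q, hq, rfl⟩ h
    have hz₀ : q⁻¹ * (x * q * x⁻¹) ∈ Z := by
      rw [← QuotientGroup.eq]
      exact h.symm
    let f : ↥Z → ↥Z := fun z => ⟨x * z * x⁻¹ * (z : G)⁻¹, Z.mul_mem (hZn.conj_mem z z.2 x) (Z.inv_mem z.2)⟩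
    have hf : Function.Injective f := by
      intro a b hab
      have h1 : x * a * x⁻¹ * (a : G)⁻¹ = x * b * x⁻¹ * (b : G)⁻¹ := congrArg Subtype.val hab
      have h2 : x * ((b : G)⁻¹ * a) * x⁻¹ = (b : G)⁻¹ * a := by
        calc x * ((b : G)⁻¹ * a) * x⁻¹ = (x * b * x⁻¹)⁻¹ * ((x * a * x⁻¹ * (a : G)⁻¹) * a) := by group
          _ = (b : G)⁻¹ * a := by rw [h1]; group
      exact Subtype.ext (inv_mul_eq_one.1 (hfpf _ (Q.mul_mem (Q.inv_mem (hZQ b.2)) (hZQ a.2)) h2)).symm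
    obtain ⟨z, hz⟩ := (Finite.injective_iff_surjective.1 hf) ⟨_, Z.inv_mem hz₀⟩
    have hz' : x * z * x⁻¹ * (z : G)⁻¹ = (q⁻¹ * (x * q * x⁻¹))⁻¹ := congrArg Subtype.val hz
    have h3 : q * z = 1 := hfpf _ (Q.mul_mem hq (hZQ z.2)) (by
      calc x * (q * z) * x⁻¹ = q * ((q⁻¹ * (x * q * x⁻¹)) * (x * z * x⁻¹ * (z : G)⁻¹)) * z := by group
        _ = q * z := by rw [hz', mul_inv_cancel, mul_one])
    show π q = 1
    rw [show π q = (q : G ⧸ Z) from rfl, QuotientGroup.eq_one_iff, eq_inv_of_mul_eq_one_left h3]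
    exact Z.inv_mem z.2
  have hcard : Nat.card (G ⧸ Z) < n := by
    rw [← hn, Subgroup.card_eq_card_quotient_mul_card_subgroup Z]
    exact lt_mul_of_one_lt_right Nat.card_pos ((Subgroup.one_lt_card_iff_ne_bot Z).2 hZ1)
  obtain ⟨hbc, hb2⟩ := ih _ hcard (G ⧸ Z) Qb rfl (hQ.map π) eb (π x) hxb hfb
  letI := commGroupOf Z hZc
  letI := commGroupOf Qb hbc
  let σ := addRep ((quotAct Q Z hQZ).comp e.symm.toMonoidHom)
  have hQbQb : Qb ≤ Subgroup.centralizer (Qb : Set (G ⧸ Z)) := fun a ha b hb => hbc b hb a ha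
  let ρ := addRep ((quotAct Qb Qb hQbQb).comp eb.symm.toMonoidHom)
  have hy3 : (e (x : G ⧸ Q)) ^ 3 = 1 := by
    rw [← map_pow, ← QuotientGroup.mk_pow, ← hx, pow_orderOf_eq_one, QuotientGroup.mk_one, map_one]
  have hy1 : e (x : G ⧸ Q) ≠ 1 := fun h => hxQ ((QuotientGroup.eq_one_iff x).1 (e.map_eq_one_iff.1 h))
  have heb : ∀ g : G, eb ((g : G ⧸ Z) : (G ⧸ Z) ⧸ Qb) = e (g : G ⧸ Q) := fun g => by
    show e _ = _
    exact congrArg e (QuotientGroup.quotientQuotientEquivQuotientAux_mk_mk Z Q hZQ g)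
  have hσv : ∀ (g : G) (a : Additive ↥Z),
      (((σ (e (g : G ⧸ Q)) a).toMul : ↥Z) : G) = g * (a.toMul : G) * g⁻¹ := fun g a => by
    show ((quotAct Q Z hQZ (e.symm (e (g : G ⧸ Q))) a.toMul : ↥Z) : G) = _
    rw [MulEquiv.symm_apply_apply]; exact quotAct_mk Q Z hQZ g _
  have hρv : ∀ (g : G) (a : Additive ↥Qb),
      (((ρ (e (g : G ⧸ Q)) a).toMul : ↥Qb) : G ⧸ Z) = π g * (a.toMul : G ⧸ Z) * (π g)⁻¹ := fun g a => by
    show ((quotAct Qb Qb hQbQb (eb.symm (e (g : G ⧸ Q))) a.toMul : ↥Qb) : G ⧸ Z) = _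
    rw [← heb, MulEquiv.symm_apply_apply]; exact quotAct_mk Qb Qb hQbQb _ _
  have hσ : Rel σ := rel_of_fpf hy3 hy1 fun m hm => by
    have h := congrArg (fun a : Additive ↥Z => ((a.toMul : ↥Z) : G)) hm
    simp only [hσv] at h
    exact Additive.toMul.injective (Subtype.ext (hfpf _ (hZQ m.toMul.2) h))
  have hρ : Rel ρ := rel_of_fpf hy3 hy1 fun m hm => by
    have h := congrArg (fun a : Additive ↥Qb => ((a.toMul : ↥Qb) : G ⧸ Z)) hm
    simp only [hρv] at h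
    exact Additive.toMul.injective (Subtype.ext (hfb _ m.toMul.2 h))
  -- the commutator map
  have hlift : ∀ a : ↥Qb, ∃ q : ↥Q, π q = (a : G ⧸ Z) := fun a => by
    obtain ⟨q, hq, h⟩ := a.2; exact ⟨⟨q, hq⟩, h⟩
  choose s hs using hlift
  have hcomm : ∀ a ∈ Q, ∀ b ∈ Q, a * b * a⁻¹ * b⁻¹ ∈ Z := by
    intro a ha b hb
    rw [← QuotientGroup.eq_one_iff]
    show π (a * b * a⁻¹ * b⁻¹) = 1
    rw [map_mul, map_mul, map_mul, map_inv, map_inv, hbc _ ⟨a, ha, rfl⟩ _ ⟨b, hb, rfl⟩]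
    group
  have hcen : ∀ q ∈ Q, ∀ z ∈ Z, z * q = q * z := fun q hq z hz => (hQZ hq) z hz
  have hind : ∀ a ∈ Q, ∀ b ∈ Q, ∀ a' ∈ Q, ∀ b' ∈ Q, π a = π a' → π b = π b' →
      a * b * a⁻¹ * b⁻¹ = a' * b' * a'⁻¹ * b'⁻¹ := by
    intro a ha b hb a' ha' b' hb' hA hB
    obtain ⟨z, hz, rfl⟩ : ∃ z ∈ Z, a' * z = a := ⟨a'⁻¹ * a, QuotientGroup.eq.1 hA.symm, mul_inv_cancel_left _ _⟩
    obtain ⟨w, hw, rfl⟩ : ∃ w ∈ Z, b' * w = b := ⟨b'⁻¹ * b, QuotientGroup.eq.1 hB.symm, mul_inv_cancel_left _ _⟩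
    have h1 : z * (b' * w) = (b' * w) * z := by
      rw [← mul_assoc, hcen b' hb' z hz, mul_assoc, hZc z hz w hw, ← mul_assoc]
    have h2 : w * a'⁻¹ = a'⁻¹ * w := hcen _ (Q.inv_mem ha') w hw
    calc a' * z * (b' * w) * (a' * z)⁻¹ * (b' * w)⁻¹
        = a' * (z * (b' * w)) * z⁻¹ * a'⁻¹ * (b' * w)⁻¹ := by group
      _ = a' * b' * (w * a'⁻¹) * w⁻¹ * b'⁻¹ := by rw [h1]; group
      _ = a' * b' * a'⁻¹ * b'⁻¹ := by rw [h2]; group
  let c : ↥Qb → ↥Qb → Additive ↥Z := fun a b =>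
    Additive.ofMul ⟨(s a : G) * s b * (s a : G)⁻¹ * (s b : G)⁻¹, hcomm _ (s a).2 _ (s b).2⟩
  have hc : ∀ (a b : ↥Qb) (a' b' : G), a' ∈ Q → b' ∈ Q → π a' = (a : G ⧸ Z) → π b' = (b : G ⧸ Z) →
      ((c a b).toMul : G) = a' * b' * a'⁻¹ * b'⁻¹ := fun a b a' b' ha' hb' hA hB =>
    hind _ (s a).2 _ (s b).2 a' ha' b' hb' ((hs a).trans hA.symm) ((hs b).trans hB.symm)
  have hadd1 : ∀ a a' b : ↥Qb, c (a * a') b = c a b + c a' b := by
    intro a a' b
    refine Additive.toMul.injective (Subtype.ext ?_)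
    rw [hc (a * a') b (s a * s a' : G) (s b) (Q.mul_mem (s a).2 (s a').2) (s b).2
      (by rw [map_mul, hs, hs]; rfl) (hs b)]
    show _ = (s a : G) * s b * (s a : G)⁻¹ * (s b : G)⁻¹ * ((s a' : G) * s b * (s a' : G)⁻¹ * (s b : G)⁻¹)
    have hz := hcomm _ (s a').2 _ (s b).2
    have h1 := hcen _ (Q.mul_mem (Q.mul_mem (Q.mul_mem (s a).2 (s b).2) (Q.inv_mem (s a).2)) (Q.inv_mem (s b).2))
      _ hz
    rw [← h1]
    have h2 := hcen _ (s a).2 _ hz
    calc (s a : G) * s a' * s b * ((s a : G) * s a')⁻¹ * (s b : G)⁻¹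
        = (s a : G) * ((s a' : G) * s b * (s a' : G)⁻¹ * (s b : G)⁻¹) * s b * (s a : G)⁻¹ * (s b : G)⁻¹ := by group
      _ = _ := by rw [← h2]; group
  have hanti : ∀ a b : ↥Qb, c a b = - c b a := by
    intro a b
    refine Additive.toMul.injective (Subtype.ext ?_)
    show (s a : G) * s b * (s a : G)⁻¹ * (s b : G)⁻¹ = ((s b : G) * s a * (s b : G)⁻¹ * (s a : G)⁻¹)⁻¹
    group
  have hadd2 : ∀ a b b' : ↥Qb, c a (b * b') = c a b + c a b' := by
    intro a b b'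
    rw [hanti, hadd1, neg_add, ← hanti, ← hanti]
  let β : Additive ↥Qb →+ Additive ↥Qb →+ Additive ↥Z :=
    AddMonoidHom.mk' (fun a => AddMonoidHom.mk' (fun b => c a.toMul b.toMul) fun b b' => hadd2 _ _ _)
      fun a a' => AddMonoidHom.ext fun b => hadd1 _ _ _
  have hβ : ∀ u v, β u v = 0 := by
    refine bilin_eq_zero hK hρ hσ (fun m => Additive.toMul.injective (Subtype.ext (hb2 _ m.toMul.2)))
      (fun m => Additive.toMul.injective (Subtype.ext (hZ2 _ m.toMul.2))) β (fun m => ?_) fun g u v => ?_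
    · refine Additive.toMul.injective (Subtype.ext ?_)
      show (s _ : G) * s _ * (s _ : G)⁻¹ * (s _ : G)⁻¹ = 1
      group
    · obtain ⟨y, rfl⟩ : ∃ y : G, e (y : G ⧸ Q) = g := by
        obtain ⟨y, hy⟩ := QuotientGroup.mk_surjective (e.symm g)
        exact ⟨y, by rw [hy, e.apply_symm_apply]⟩
      refine Additive.toMul.injective (Subtype.ext ?_)
      rw [hσv]
      have hm : ∀ w : Additive ↥Qb, π (y * s w.toMul * y⁻¹) = (((ρ (e (y : G ⧸ Q)) w).toMul : ↥Qb) : G ⧸ Z) :=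
        fun w => by rw [hρv, map_mul, map_mul, map_inv, hs]
      show ((c _ _).toMul : G) = y * ((s u.toMul : G) * s v.toMul * (s u.toMul : G)⁻¹ * (s v.toMul : G)⁻¹) * y⁻¹
      rw [hc _ _ (y * s u.toMul * y⁻¹) (y * s v.toMul * y⁻¹) (Subgroup.Normal.conj_mem inferInstance _ (s _).2 y)
        (Subgroup.Normal.conj_mem inferInstance _ (s _).2 y) (hm u) (hm v)]
      group
  have hQc : ∀ a ∈ Q, ∀ b ∈ Q, a * b = b * a := by
    intro a ha b hb
    have h := hc (⟨π a, ⟨a, ha, rfl⟩⟩ : ↥Qb) (⟨π b, ⟨b, hb, rfl⟩⟩ : ↥Qb) a b ha hb rfl rfl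
    have h0 : c (⟨π a, ⟨a, ha, rfl⟩⟩ : ↥Qb) (⟨π b, ⟨b, hb, rfl⟩⟩ : ↥Qb) = 0 :=
      hβ (Additive.ofMul (⟨π a, ⟨a, ha, rfl⟩⟩ : ↥Qb)) (Additive.ofMul (⟨π b, ⟨b, hb, rfl⟩⟩ : ↥Qb))
    rw [h0] at h
    exact mul_inv_eq_iff_eq_mul.1 (mul_inv_eq_one.1 h.symm)
  refine ⟨hQc, fun a ha => ?_⟩
  -- exponent four would give two natural layers
  letI := commGroupOf Q hQc
  have hQQ : Q ≤ Subgroup.centralizer (Q : Set G) := fun a ha b hb => hQc b hb a ha
  let τ := addRep ((quotAct Q Q hQQ).comp e.symm.toMonoidHom)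
  have hτv : ∀ (g : G) (a : Additive ↥Q),
      (((τ (e (g : G ⧸ Q)) a).toMul : ↥Q) : G) = g * (a.toMul : G) * g⁻¹ := fun g a => by
    show ((quotAct Q Q hQQ (e.symm (e (g : G ⧸ Q))) a.toMul : ↥Q) : G) = _
    rw [MulEquiv.symm_apply_apply]; exact quotAct_mk Q Q hQQ g _
  have hτ : Rel τ := rel_of_fpf hy3 hy1 fun m hm => by
    have h := congrArg (fun a : Additive ↥Q => ((a.toMul : ↥Q) : G)) hm
    simp only [hτv] at h
    exact Additive.toMul.injective (Subtype.ext (hfpf _ m.toMul.2 h))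
  let ZA : AddSubgroup (Additive ↥Q) := Subgroup.toAddSubgroup (Z.subgroupOf Q)
  have hmem : ∀ a : Additive ↥Q, a ∈ ZA ↔ (a.toMul : G) ∈ Z := fun a => Iff.rfl
  have h4 := two_torsion_of_layer hK hτ ZA (fun g z hz => by
      obtain ⟨y, rfl⟩ : ∃ y : G, e (y : G ⧸ Q) = g := by
        obtain ⟨y, hy⟩ := QuotientGroup.mk_surjective (e.symm g)
        exact ⟨y, by rw [hy, e.apply_symm_apply]⟩
      rw [hmem] at hz ⊢
      rw [hτv]
      exact hZn.conj_mem _ hz y)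
    (fun z hz => Additive.toMul.injective (Subtype.ext (hZ2 _ hz)))
    (fun m => by
      rw [hmem]
      refine (QuotientGroup.eq_one_iff _).1 ?_
      exact hb2 _ ⟨_, m.toMul.2, rfl⟩)
    (Additive.ofMul ⟨a, ha⟩)
  exact congrArg (fun m : Additive ↥Q => ((m.toMul : ↥Q) : G)) h4

end Cfsg.Agent.SL2Module
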