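import Cfsg.Agent.Lib.SL2Module.Mat

/-!
Modules for `SL₂(K)`, `K` of characteristic two, on which the elements of trace one satisfy `g² + g + 1 = 0`.

* `fix₂`: the involutions-or-zero fixed by the upper unitriangular group; a `K`-module (`sc`, `fixModule`)
* `Nat₂`: `c + w c'` with `c, c' ∈ fix₂`; `invariant_nat₂`
-/

set_option autoImplicit false
set_option linter.unusedSectionVars false

namespace Cfsg.Agent.SL2Module

variable {K : Type*} [Field K] [CharP K 2] {M : Type*} [AddCommGroup M]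
  (ρ : Matrix.SpecialLinearGroup (Fin 2) K →* AddMonoid.End M)

/-- Trace one elements satisfy `g² + g + 1 = 0`. -/
def Rel : Prop :=
  ∀ g : Matrix.SpecialLinearGroup (Fin 2) K, Matrix.trace g.1 = 1 → ∀ m, ρ g (ρ g m) + ρ g m + m = 0

theorem app_mul (g h : Matrix.SpecialLinearGroup (Fin 2) K) (m : M) : ρ (g * h) m = ρ g (ρ h m) := by
  rw [map_mul]; rfl

theorem app_one (m : M) : ρ 1 m = m := by
  rw [map_one]; rfl

theorem wm_wm (m : M) : ρ wm (ρ wm m) = m := by rw [← app_mul, wm_sq, app_one]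

theorem up_up (a : K) (m : M) : ρ (up a) (ρ (up a) m) = m := by rw [← app_mul, up_sq, app_one]

theorem up_add (a b : K) (m : M) : ρ (up (a + b)) m = ρ (up a) (ρ (up b) m) := by rw [← app_mul, up_mul]

theorem lo_apply (a : K) (m : M) : ρ (lo a) m = ρ wm (ρ (up a) (ρ wm m)) := by
  rw [← app_mul, ← app_mul, wm_conj_up]

/-- The elements `c` with `c + c = 0` fixed by every `up a`. -/
def fix₂ : AddSubgroup M where
  carrier := {m | m + m = 0 ∧ ∀ a : K, ρ (up a) m = m}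
  zero_mem' := ⟨add_zero 0, fun a => map_zero _⟩
  add_mem' := fun {x y} hx hy => ⟨by rw [add_add_add_comm, hx.1, hy.1, add_zero],
    fun a => by rw [map_add, hx.2 a, hy.2 a]⟩
  neg_mem' := fun {x} hx => ⟨by rw [← neg_add, hx.1, neg_zero], fun a => by rw [map_neg, hx.2 a]⟩

open Classical in
/-- The action of the scalar `a`, through the diagonal matrix. -/
noncomputable def sc (a : K) (m : M) : M := if h : a = 0 then 0 else ρ (dg (Units.mk0 a h)) m

theorem sc_zero (m : M) : sc ρ 0 m = 0 := dif_pos rfl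

theorem sc_coe (a : Kˣ) (m : M) : sc ρ (a : K) m = ρ (dg a) m := by
  rw [sc, dif_neg a.ne_zero]
  congr 2
  exact congrArg dg (Units.ext rfl)

theorem sc_one (m : M) : sc ρ 1 m = m := by
  have := sc_coe ρ (1 : Kˣ) m
  rwa [Units.val_one, dg_one, app_one] at this

theorem sc_map_add (a : K) (x y : M) : sc ρ a (x + y) = sc ρ a x + sc ρ a y := by
  by_cases ha : a = 0
  · subst ha; simp [sc_zero]
  · lift a to Kˣ using Ne.isUnit ha with u
    simp [sc_coe, map_add]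

theorem sc_map_zero (a : K) : sc ρ a (0 : M) = 0 := by
  have := sc_map_add ρ a 0 0
  rwa [add_zero, left_eq_add] at this

theorem sc_map_sub (a : K) (x y : M) : sc ρ a (x - y) = sc ρ a x - sc ρ a y := by
  rw [eq_sub_iff_add_eq, ← sc_map_add, sub_add_cancel]

theorem sc_mul (a b : K) (m : M) : sc ρ (a * b) m = sc ρ a (sc ρ b m) := by
  by_cases ha : a = 0
  · subst ha; simp [sc_zero]
  by_cases hb : b = 0
  · subst hb; simp [sc_zero, sc_map_zero]
  lift a to Kˣ using Ne.isUnit ha with u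
  lift b to Kˣ using Ne.isUnit hb with v
  rw [← Units.val_mul, sc_coe, sc_coe, sc_coe, ← app_mul, dg_mul]

theorem sc_mem_fix₂ (a : K) {c : M} (hc : c ∈ fix₂ ρ) : sc ρ a c ∈ fix₂ ρ := by
  by_cases ha : a = 0
  · subst ha; rw [sc_zero]; exact zero_mem _
  lift a to Kˣ using Ne.isUnit ha with u
  refine ⟨by rw [← sc_map_add, hc.1, sc_map_zero], fun b => ?_⟩
  have h : up b * dg u = dg u * up (((u⁻¹ : Kˣ) : K) * ((u⁻¹ : Kˣ) : K) * b) := by
    rw [dg_up]
    congr 2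
    field_simp
    simp [mul_comm, mul_left_comm]
  rw [sc_coe, ← app_mul, h, app_mul, hc.2]

theorem wm_sc (a : Kˣ) (m : M) : ρ wm (sc ρ (a : K) m) = sc ρ ((a⁻¹ : Kˣ) : K) (ρ wm m) := by
  rw [sc_coe, sc_coe, ← app_mul, wm_dg, app_mul]

variable {ρ} (hrel : Rel ρ)
include hrel

/-- `l(a) c = c + w (a c)`. -/
theorem lo_fix (a : K) {c : M} (hc : c ∈ fix₂ ρ) : ρ (lo a) c = c + ρ wm (sc ρ a c) := by
  by_cases ha : a = 0
  · subst ha
    rw [sc_zero, map_zero, add_zero, show lo (0 : K) = 1 from Subtype.ext (by simp [lo_val, Matrix.one_fin_two]),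
      app_one]
  lift a to Kˣ using Ne.isUnit ha with b
  have hy := hrel _ (trace_up_mul_lo b⁻¹) (ρ (lo (b : K)) c)
  simp only [inv_inv] at hy
  have hll : ρ (lo (b : K)) (ρ (lo (b : K)) c) = c := by rw [← app_mul, lo_sq, app_one]
  rw [app_mul, app_mul, hll, hc.2] at hy
  have hw : ρ (up ((b⁻¹ : Kˣ) : K)) (ρ (lo (b : K)) c) = ρ wm (sc ρ (b : K) c) := by
    have h := congrArg (fun g => ρ g c) (up_lo_up b⁻¹)
    simp only [inv_inv, app_mul, hc.2] at h
    rw [h, wm_sc, sc_coe]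
  have h2 : ρ wm (sc ρ (b : K) c) + ρ wm (sc ρ (b : K) c) = 0 := by
    rw [← map_add, ← sc_map_add, hc.1, sc_map_zero, map_zero]
  rw [hw] at hy
  calc ρ (lo (b : K)) c = (ρ wm (sc ρ (b : K) c) + c + ρ (lo (b : K)) c)
        + ((c + ρ wm (sc ρ (b : K) c)) - (ρ wm (sc ρ (b : K) c) + ρ wm (sc ρ (b : K) c)) - (c + c)) := by abel
    _ = c + ρ wm (sc ρ (b : K) c) := by rw [hy, h2, hc.1, zero_add, sub_zero, sub_zero]

theorem lo_wm (a : K) {c : M} (hc : c ∈ fix₂ ρ) : ρ (lo a) (ρ wm c) = ρ wm c := by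
  rw [lo_apply, wm_wm, hc.2]

theorem sc_add (a b : K) {c : M} (hc : c ∈ fix₂ ρ) : sc ρ (a + b) c = sc ρ a c + sc ρ b c := by
  have h : ρ (lo (a + b)) c = ρ (lo a) (ρ (lo b) c) := by rw [← app_mul, lo_mul]
  rw [lo_fix hrel _ hc, lo_fix hrel b hc, map_add, lo_fix hrel a hc,
    lo_wm hrel a (sc_mem_fix₂ ρ b hc), add_assoc, add_left_cancel_iff, ← map_add] at h
  have := congrArg (ρ wm) h
  rwa [wm_wm, wm_wm] at this

/-- The `K`-module structure of `fix₂`. -/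
@[reducible]
noncomputable def fixModule : Module K ↥(fix₂ ρ) :=
  letI : SMul K ↥(fix₂ ρ) := ⟨fun a c => ⟨sc ρ a c, sc_mem_fix₂ ρ a c.2⟩⟩
  Module.ofMinimalAxioms
    (fun a x y => Subtype.ext (sc_map_add ρ a x y))
    (fun a b x => Subtype.ext (sc_add hrel a b x.2))
    (fun a b x => Subtype.ext (sc_mul ρ a b x))
    (fun x => Subtype.ext (sc_one ρ x))

/-- `u(a) (w c) = w c + a c`. -/
theorem up_wm (a : K) {c : M} (hc : c ∈ fix₂ ρ) : ρ (up a) (ρ wm c) = ρ wm c + sc ρ a c := by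
  have h := congrArg (ρ wm) (lo_fix hrel a hc)
  rwa [lo_apply, wm_wm, map_add, wm_wm] at h

theorem eq_zero_of_wm_mem {c : M} (hc : c ∈ fix₂ ρ) (hw : ρ wm c ∈ fix₂ ρ) : c = 0 := by
  have h := up_wm hrel 1 hc
  rwa [hw.2, sc_one, left_eq_add] at h

theorem coord_unique {c c' d d' : M} (hc : c ∈ fix₂ ρ) (hc' : c' ∈ fix₂ ρ) (hd : d ∈ fix₂ ρ)
    (hd' : d' ∈ fix₂ ρ) (h : c + ρ wm c' = d + ρ wm d') : c = d ∧ c' = d' := by
  have h' : ρ wm (c' - d') = d - c := by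
    rw [map_sub, eq_sub_iff_add_eq, sub_add_eq_add_sub, sub_eq_iff_eq_add, add_comm, h]
  have h0 := eq_zero_of_wm_mem hrel (sub_mem hc' hd') (h' ▸ sub_mem hd hc)
  rw [sub_eq_zero] at h0
  subst h0
  exact ⟨add_right_cancel h, rfl⟩

omit hrel in
variable (ρ) in
/-- `C + w C` for `C = fix₂`. -/
def nat₂ : AddSubgroup M := fix₂ ρ ⊔ (fix₂ ρ).map (ρ wm)

omit hrel in
theorem mem_nat₂ {m : M} : m ∈ nat₂ ρ ↔ ∃ c ∈ fix₂ ρ, ∃ c' ∈ fix₂ ρ, c + ρ wm c' = m := by
  rw [nat₂, AddSubgroup.mem_sup]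
  constructor
  · rintro ⟨c, hc, _, ⟨c', hc', rfl⟩, e⟩; exact ⟨c, hc, c', hc', e⟩
  · rintro ⟨c, hc, c', hc', e⟩; exact ⟨c, hc, _, ⟨c', hc', rfl⟩, e⟩

theorem invariant_nat₂ (g : Matrix.SpecialLinearGroup (Fin 2) K) : ∀ m ∈ nat₂ ρ, ρ g m ∈ nat₂ ρ := by
  have hgen : ∀ t ∈ (Set.range (up : K → _) ∪ {wm}), ∀ m ∈ nat₂ ρ, ρ t m ∈ nat₂ ρ := by
    intro t ht m hm
    obtain ⟨c, hc, c', hc', rfl⟩ := mem_nat₂.1 hm
    rcases ht with ⟨a, rfl⟩ | rfl
    · refine mem_nat₂.2 ⟨c + sc ρ a c', add_mem hc (sc_mem_fix₂ ρ a hc'), c', hc', ?_⟩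
      rw [map_add, hc.2, up_wm hrel a hc']; abel
    · exact mem_nat₂.2 ⟨c', hc', c, hc, by rw [map_add, wm_wm, add_comm]⟩
  have key : ∀ g ∈ Subgroup.closure (Set.range (up : K → _) ∪ {wm}),
      (∀ m ∈ nat₂ ρ, ρ g m ∈ nat₂ ρ) ∧ (∀ m ∈ nat₂ ρ, ρ g⁻¹ m ∈ nat₂ ρ) := by
    intro g hg
    induction hg using Subgroup.closure_induction with
    | mem t ht =>
      refine ⟨hgen t ht, fun m hm => ?_⟩
      have ht2 : t * t = 1 := by
        rcases ht with ⟨a, rfl⟩ | rfl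
        · exact up_sq a
        · exact wm_sq
      rw [inv_eq_of_mul_eq_one_right ht2]
      exact hgen t ht m hm
    | one => simp [app_one]
    | mul x y _ _ ihx ihy =>
      exact ⟨fun m hm => by rw [app_mul]; exact ihx.1 _ (ihy.1 m hm),
        fun m hm => by rw [mul_inv_rev, app_mul]; exact ihy.2 _ (ihx.2 m hm)⟩
    | inv x _ ih => exact ⟨ih.2, fun m hm => by rw [inv_inv]; exact ih.1 m hm⟩
  exact (key g (closure_eq_top.ge (Subgroup.mem_top g))).1

end Cfsg.Agent.SL2Module
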