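import Cfsg.Agent.Lib.SL2Module.Lift

/-!
* `bilin_eq_zero`: no equivariant alternating biadditive map between sums of natural `SL₂(K)`-modules
* `natMap`: the map `(ι → K²) → M` of a `K`-basis of `fix₂`, bijective and equivariant
-/

set_option autoImplicit false
set_option linter.unusedSectionVars false

namespace Cfsg.Agent.SL2Module

variable {K : Type*} [Field K] [CharP K 2] [Finite K]
  {M : Type*} [AddCommGroup M] [Finite M]
  {ρ : Matrix.SpecialLinearGroup (Fin 2) K →* AddMonoid.End M}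

theorem bilin_eq_zero {N : Type*} [AddCommGroup N] [Finite N]
    {σ : Matrix.SpecialLinearGroup (Fin 2) K →* AddMonoid.End N} (hK : 4 ≤ Nat.card K)
    (hρ : Rel ρ) (hσ : Rel σ) (hM : ∀ m : M, m + m = 0) (hN : ∀ n : N, n + n = 0) (β : M →+ M →+ N)
    (halt : ∀ m, β m m = 0) (heq : ∀ g x y, β (ρ g x) (ρ g y) = σ g (β x y)) : ∀ x y, β x y = 0 := by
  letI := fixModule hσ
  have hsymm : ∀ x y, β x y = β y x := by
    intro x y
    have h := halt (x + y)
    simp only [map_add, AddMonoidHom.add_apply, halt, zero_add, add_zero] at h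
    rw [eq_neg_of_add_eq_zero_left h]
    exact (neg_eq_of_add_eq_zero_left (hN _)).symm
  have hfix : ∀ c ∈ fix₂ ρ, ∀ c' ∈ fix₂ ρ, β c c' ∈ fix₂ σ := fun c hc c' hc' =>
    ⟨hN _, fun a => by rw [← heq, hc.2, hc'.2]⟩
  -- `β` is linear in the scalar
  have hmix : ∀ c ∈ fix₂ ρ, ∀ c' ∈ fix₂ ρ, (∀ a : K, β c (sc ρ a c') = sc σ a (β c c')) ∧
      ∃ d ∈ fix₂ σ, β c (ρ wm c') = d + σ wm (β c c') := by
    intro c hc c' hc'
    obtain ⟨d, hd, d', hd', e⟩ :=
      mem_nat₂.1 ((nat₂_eq_top hK hσ hN).ge (AddSubgroup.mem_top (β c (ρ wm c'))))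
    have h : ∀ a : K, β c (sc ρ a c') = sc σ a d' := by
      intro a
      have h1 : σ (up a) (β c (ρ wm c')) = β c (ρ wm c') + β c (sc ρ a c') := by
        rw [← heq, hc.2, up_wm hρ a hc', map_add]
      rw [← e, map_add, hd.2, up_wm hσ a hd', ← add_assoc] at h1
      exact (add_left_cancel h1).symm
    have hd'eq : d' = β c c' := by
      have := h 1
      rwa [sc_one, sc_one, eq_comm] at this
    subst hd'eq
    exact ⟨h, d, hd, e.symm⟩
  obtain ⟨l, hl0, hl1⟩ : ∃ t : K, t ≠ 0 ∧ t ≠ 1 := by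
    classical
    by_contra hcon
    push Not at hcon
    have := Fintype.ofFinite K
    have : (Finset.univ : Finset K) ⊆ {0, 1} := fun t _ => by
      rcases eq_or_ne t 0 with h | h
      · simp [h]
      · simp [hcon t h]
    have := (Finset.card_le_card this).trans Finset.card_le_two
    rw [Finset.card_univ, ← Nat.card_eq_fintype_card] at this
    omega
  have hbb : ∀ c ∈ fix₂ ρ, ∀ c' ∈ fix₂ ρ, β c c' = 0 := by
    intro c hc c' hc'
    lift l to Kˣ using Ne.isUnit hl0 with u
    have h := heq (dg u) c c'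
    rw [← sc_coe, ← sc_coe, ← sc_coe, (hmix _ (sc_mem_fix₂ ρ _ hc) _ hc').1, hsymm (sc ρ (u : K) c),
      (hmix _ hc' _ hc).1, hsymm c', ← sc_mul] at h
    have h' : ((u : K) * u - u) • (⟨β c c', hfix c hc c' hc'⟩ : ↥(fix₂ σ)) = 0 := by
      rw [sub_smul, sub_eq_zero]; exact Subtype.ext h
    rcases smul_eq_zero.1 h' with h | h
    · rcases mul_eq_zero.1 (show (u : K) * ((u : K) - 1) = 0 by linear_combination h) with h | h
      · exact absurd h hl0
      · exact absurd (sub_eq_zero.1 h) hl1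
    · exact congrArg Subtype.val h
  have hmf : ∀ c ∈ fix₂ ρ, ∀ c' ∈ fix₂ ρ, β c (ρ wm c') ∈ fix₂ σ := by
    intro c hc c' hc'
    obtain ⟨-, d, hd, e⟩ := hmix c hc c' hc'
    rw [e, hbb c hc c' hc', map_zero, add_zero]
    exact hd
  have hcw : ∀ c ∈ fix₂ ρ, ∀ c' ∈ fix₂ ρ, β c (ρ wm c') = 0 := by
    intro c hc c' hc'
    refine eq_zero_of_wm_mem hσ (hmf c hc c' hc') ?_
    rw [← heq, wm_wm, hsymm]
    exact hmf c' hc' c hc
  have hall : ∀ m : M, ∃ c ∈ fix₂ ρ, ∃ c' ∈ fix₂ ρ, c + ρ wm c' = m := fun m =>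
    mem_nat₂.1 ((nat₂_eq_top hK hρ hM).ge (AddSubgroup.mem_top m))
  intro x y
  obtain ⟨c, hc, c', hc', rfl⟩ := hall x
  obtain ⟨d, hd, d', hd', rfl⟩ := hall y
  simp only [map_add, AddMonoidHom.add_apply, hbb c hc d hd, hcw c hc d' hd', heq, hbb c' hc' d' hd', map_zero]
  rw [hsymm, hcw d hd c' hc', add_zero, add_zero]

/-- Generators act as matrices ⇒ everything does. -/
theorem equivariant_of_gen (L : (Fin 2 → K) → M)
    (hup : ∀ a v, L ((up a).1.mulVec v) = ρ (up a) (L v))
    (hw : ∀ v, L ((wm : Matrix.SpecialLinearGroup (Fin 2) K).1.mulVec v) = ρ wm (L v)) :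
    ∀ (g : Matrix.SpecialLinearGroup (Fin 2) K) v, L (g.1.mulVec v) = ρ g (L v) := by
  have key : ∀ g ∈ Subgroup.closure (Set.range (up : K → _) ∪ {wm}),
      ∀ v, L (g.1.mulVec v) = ρ g (L v) := by
    intro g hg
    induction hg using Subgroup.closure_induction with
    | mem t ht =>
      rcases ht with ⟨a, rfl⟩ | rfl
      · exact hup a
      · exact hw
    | one => intro v; rw [val_one, Matrix.one_mulVec, app_one]
    | mul x y _ _ ihx ihy =>
      intro v; rw [val_mul, ← Matrix.mulVec_mulVec, ihx, ihy, app_mul]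
    | inv x _ ih =>
      intro v
      have h := congrArg (ρ x⁻¹) (ih ((x⁻¹).1.mulVec v))
      rw [← app_mul, inv_mul_cancel, app_one, Matrix.mulVec_mulVec, ← val_mul, mul_inv_cancel, val_one,
        Matrix.one_mulVec] at h
      exact h.symm
  exact fun g => key g (closure_eq_top.ge (Subgroup.mem_top g))

/-- An elementary `Rel` module is a sum of natural modules. -/
theorem exists_natural_decomposition (hK : 4 ≤ Nat.card K) (hrel : Rel ρ) (h2 : ∀ m : M, m + m = 0) :
    ∃ (k : ℕ) (T : (Fin k → Fin 2 → K) →+ M), Function.Bijective T ∧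
      ∀ g v, T (fun i => (g : Matrix.SpecialLinearGroup (Fin 2) K).1.mulVec (v i)) = ρ g (T v) := by
  letI := fixModule hrel
  have hsmul : ∀ (a : K) (c : ↥(fix₂ ρ)), ((a • c : ↥(fix₂ ρ)) : M) = sc ρ a c := fun a c => rfl
  let b := Module.finBasis K ↥(fix₂ ρ)
  let lc : (Fin (Module.finrank K ↥(fix₂ ρ)) → K) ≃ₗ[K] ↥(fix₂ ρ) := b.equivFun.symm
  let T : (Fin (Module.finrank K ↥(fix₂ ρ)) → Fin 2 → K) →+ M :=
    { toFun := fun v => (lc (fun i => v i 0) : M) + ρ wm (lc (fun i => v i 1) : M)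
      map_zero' := by
        show ((lc 0 : ↥(fix₂ ρ)) : M) + ρ wm ((lc 0 : ↥(fix₂ ρ)) : M) = 0
        rw [map_zero, ZeroMemClass.coe_zero, map_zero, add_zero]
      map_add' := fun v v' => by
        show ((lc ((fun i => v i 0) + fun i => v' i 0) : ↥(fix₂ ρ)) : M) +
          ρ wm ((lc ((fun i => v i 1) + fun i => v' i 1) : ↥(fix₂ ρ)) : M) = _
        rw [map_add, map_add, AddMemClass.coe_add, AddMemClass.coe_add, map_add]
        abel }
  refine ⟨_, T, ⟨?_, ?_⟩, fun g v => ?_⟩
  · intro v v' h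
    obtain ⟨h0, h1⟩ := coord_unique hrel (lc _).2 (lc _).2 (lc _).2 (lc _).2 h
    have h0' := lc.injective (Subtype.ext h0)
    have h1' := lc.injective (Subtype.ext h1)
    funext i r
    fin_cases r
    · exact congrFun h0' i
    · exact congrFun h1' i
  · intro m
    obtain ⟨c, hc, c', hc', rfl⟩ := mem_nat₂.1 ((nat₂_eq_top hK hrel h2).ge (AddSubgroup.mem_top m))
    refine ⟨fun i => ![lc.symm ⟨c, hc⟩ i, lc.symm ⟨c', hc'⟩ i], ?_⟩
    show (lc (fun i => lc.symm ⟨c, hc⟩ i) : M) + ρ wm (lc (fun i => lc.symm ⟨c', hc'⟩ i) : M) = c + ρ wm c'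
    rw [lc.apply_symm_apply, lc.apply_symm_apply]
  · have hgen_up : ∀ (a : K) (v : Fin (Module.finrank K ↥(fix₂ ρ)) → Fin 2 → K),
        T (fun i => (up a).1.mulVec (v i)) = ρ (up a) (T v) := by
      intro a v
      show (lc (fun i => (up a).1.mulVec (v i) 0) : M) + ρ wm (lc (fun i => (up a).1.mulVec (v i) 1) : M)
        = ρ (up a) ((lc (fun i => v i 0) : M) + ρ wm (lc (fun i => v i 1) : M))
      have e0 : (fun i => (up a).1.mulVec (v i) 0) = (fun i => v i 0) + a • fun i => v i 1 := by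
        funext i; simp [up_val, Matrix.mulVec, dotProduct, Fin.sum_univ_two]
      have e1 : (fun i => (up a).1.mulVec (v i) 1) = fun i => v i 1 := by
        funext i; simp [up_val, Matrix.mulVec, dotProduct, Fin.sum_univ_two]
      rw [e0, e1, map_add lc, LinearEquiv.map_smul, AddMemClass.coe_add, hsmul, map_add (ρ (up a)),
        (lc _).2.2, up_wm hrel a (lc _).2]
      abel
    have hgen_w : ∀ v : Fin (Module.finrank K ↥(fix₂ ρ)) → Fin 2 → K,
        T (fun i => (wm : Matrix.SpecialLinearGroup (Fin 2) K).1.mulVec (v i)) = ρ wm (T v) := by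
      intro v
      show (lc (fun i => (wm : Matrix.SpecialLinearGroup (Fin 2) K).1.mulVec (v i) 0) : M) +
        ρ wm (lc (fun i => (wm : Matrix.SpecialLinearGroup (Fin 2) K).1.mulVec (v i) 1) : M)
        = ρ wm ((lc (fun i => v i 0) : M) + ρ wm (lc (fun i => v i 1) : M))
      have e0 : (fun i => (wm : Matrix.SpecialLinearGroup (Fin 2) K).1.mulVec (v i) 0) = fun i => v i 1 := by
        funext i; simp [wm_val, Matrix.mulVec, dotProduct, Fin.sum_univ_two]
      have e1 : (fun i => (wm : Matrix.SpecialLinearGroup (Fin 2) K).1.mulVec (v i) 1) = fun i => v i 0 := by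
        funext i; simp [wm_val, Matrix.mulVec, dotProduct, Fin.sum_univ_two]
      rw [e0, e1, map_add, wm_wm, add_comm]
    classical
    have hsingle : ∀ j, ∀ u : Fin 2 → K,
        T (Pi.single j (g.1.mulVec u)) = ρ g (T (Pi.single j u)) := by
      intro j u
      refine equivariant_of_gen (fun u => T (Pi.single j u)) (fun a u => ?_) (fun u => ?_) g u
      · rw [← hgen_up]
        congr 1; funext i
        by_cases hij : i = j
        · subst hij; simp
        · simp [hij]
      · rw [← hgen_w]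
        congr 1; funext i
        by_cases hij : i = j
        · subst hij; simp
        · simp [hij]
    rw [← Finset.univ_sum_single (fun i => g.1.mulVec (v i))]
    conv_rhs => rw [← Finset.univ_sum_single v]
    rw [map_sum T, map_sum T, map_sum (ρ g)]
    exact Finset.sum_congr rfl fun j _ => hsingle j (v j)

end Cfsg.Agent.SL2Module
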