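import Cfsg.Agent.Lib.SL2Module.Basic

/-!
`Rel` modules for `SL₂(K)`, `char K = 2`, `|K| ≥ 4`.

* `lift_fixed`: for a natural submodule `Z` with `2M ≤ Z`, fixed points of `M/Z` lift to elements of `fix₂`
* `nat₂_eq_top`: if `2M = 0` then `M = C + w C`
* `two_torsion_of_layer`: if `2M ≤ Z` and `2Z = 0` then `2M = 0`
-/

set_option autoImplicit false
set_option linter.unusedSectionVars false

namespace Cfsg.Agent.SL2Module

open Classical

variable {K : Type*} [Field K] [CharP K 2] {M : Type*} [AddCommGroup M]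
  {ρ : Matrix.SpecialLinearGroup (Fin 2) K →* AddMonoid.End M}

section Quot

variable (ρ) (Z : AddSubgroup M) (hinv : ∀ g, ∀ z ∈ Z, ρ g z ∈ Z)

/-- The action on `M ⧸ Z`. -/
noncomputable def qrep : Matrix.SpecialLinearGroup (Fin 2) K →* AddMonoid.End (M ⧸ Z) where
  toFun g := QuotientAddGroup.map Z Z (ρ g) (fun z hz => hinv g z hz)
  map_one' := by
    refine AddMonoidHom.ext fun m => ?_
    induction m using QuotientAddGroup.induction_on with | H m => ?_
    exact congrArg QuotientAddGroup.mk (app_one ρ m)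
  map_mul' g h := by
    refine AddMonoidHom.ext fun m => ?_
    induction m using QuotientAddGroup.induction_on with | H m => ?_
    exact congrArg QuotientAddGroup.mk (app_mul ρ g h m)

theorem qrep_mk (g : Matrix.SpecialLinearGroup (Fin 2) K) (m : M) :
    qrep ρ Z hinv g (m : M ⧸ Z) = ((ρ g m : M) : M ⧸ Z) := rfl

theorem rel_qrep (hrel : Rel ρ) : Rel (qrep ρ Z hinv) := by
  intro g hg m
  induction m using QuotientAddGroup.induction_on with | H m => ?_
  rw [qrep_mk, qrep_mk, ← QuotientAddGroup.mk_add, ← QuotientAddGroup.mk_add, hrel g hg m]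
  rfl

theorem sc_qrep (a : K) (m : M) : sc (qrep ρ Z hinv) a (m : M ⧸ Z) = ((sc ρ a m : M) : M ⧸ Z) := by
  by_cases ha : a = 0
  · subst ha; rw [sc_zero, sc_zero]; rfl
  lift a to Kˣ using Ne.isUnit ha with u
  rw [sc_coe, sc_coe, qrep_mk]

theorem mk_mem_fix₂ {p : M} (h2 : p + p ∈ Z) (hp : ∀ a : K, ρ (up a) p - p ∈ Z) :
    (p : M ⧸ Z) ∈ fix₂ (qrep ρ Z hinv) := by
  refine ⟨?_, fun a => ?_⟩
  · rw [← QuotientAddGroup.mk_add]; exact (QuotientAddGroup.eq_zero_iff _).2 h2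
  · rw [qrep_mk, QuotientAddGroup.eq_iff_sub_mem]; exact hp a

end Quot

/-- Fixed points of `M ⧸ Z` lift, `Z` natural. -/
theorem lift_fixed [Finite K] [Finite M] (hK : 4 ≤ Nat.card K) (hrel : Rel ρ) (Z : AddSubgroup M)
    (hinv : ∀ g, ∀ z ∈ Z, ρ g z ∈ Z) (hZ2 : ∀ z ∈ Z, z + z = 0) (hM2 : ∀ m : M, m + m ∈ Z)
    (hnat : ∀ z ∈ Z, ∃ c ∈ fix₂ ρ ⊓ Z, ∃ c' ∈ fix₂ ρ ⊓ Z, c + ρ wm c' = z)
    {p : M} (hp : ∀ a : K, ρ (up a) p - p ∈ Z) : p + p = 0 ∧ ∃ z ∈ Z, p + z ∈ fix₂ ρ := by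
  letI := fixModule hrel
  set CZ := fix₂ ρ ⊓ Z with hCZ
  have hwZ : ∀ z ∈ Z, ρ wm z ∈ Z := fun z hz => hinv _ z hz
  have hscZ : ∀ (a : K), ∀ z ∈ Z, sc ρ a z ∈ Z := by
    intro a z hz
    by_cases ha : a = 0
    · subst ha; rw [sc_zero]; exact Z.zero_mem
    lift a to Kˣ using Ne.isUnit ha with u
    rw [sc_coe]; exact hinv _ z hz
  have hscC : ∀ (a : K), ∀ c ∈ CZ, sc ρ a c ∈ CZ := fun a c hc =>
    ⟨sc_mem_fix₂ ρ a hc.1, hscZ a c hc.2⟩
  -- the preimage of the fixed points of `M ⧸ Z`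
  let P : AddSubgroup M :=
    { carrier := {x | ∀ a : K, ρ (up a) x - x ∈ Z}
      zero_mem' := fun a => by simp
      add_mem' := fun {x y} hx hy a => by
        rw [map_add, add_sub_add_comm]; exact Z.add_mem (hx a) (hy a)
      neg_mem' := fun {x} hx a => by
        rw [map_neg, neg_sub_neg, ← neg_sub]; exact Z.neg_mem (hx a) }
  have hpP : p ∈ P := hp
  have hZP : Z ≤ P := fun z hz a => Z.sub_mem (hinv _ z hz) hz
  have hqfix : ∀ x ∈ P, (x : M ⧸ Z) ∈ fix₂ (qrep ρ Z hinv) := fun x hx => mk_mem_fix₂ ρ Z hinv (hM2 x) hx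
  have hscP : ∀ (a : K), ∀ x ∈ P, sc ρ a x ∈ P := by
    intro a x hx b
    have h := (sc_mem_fix₂ (qrep ρ Z hinv) a (hqfix x hx)).2 b
    rw [sc_qrep, qrep_mk, QuotientAddGroup.eq_iff_sub_mem] at h
    exact h
  -- the second coordinate on `Z`
  let pr : M → M := fun z => if h : ∃ c' ∈ CZ, z - ρ wm c' ∈ CZ then h.choose else 0
  have hprC : ∀ z, pr z ∈ CZ := by
    intro z
    by_cases h : ∃ c' ∈ CZ, z - ρ wm c' ∈ CZ
    · simp only [pr, dif_pos h]; exact h.choose_spec.1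
    · simp only [pr, dif_neg h]; exact CZ.zero_mem
  have hpr_eq : ∀ c ∈ CZ, ∀ c' ∈ CZ, pr (c + ρ wm c') = c' := by
    intro c hc c' hc'
    have h : ∃ d ∈ CZ, c + ρ wm c' - ρ wm d ∈ CZ := ⟨c', hc', by simpa using hc⟩
    simp only [pr, dif_pos h]
    obtain ⟨h1, h2⟩ := h.choose_spec
    exact (coord_unique hrel h2.1 h1.1 hc.1 hc'.1 (sub_add_cancel _ _)).2
  have hpr_add : ∀ z ∈ Z, ∀ z' ∈ Z, pr (z + z') = pr z + pr z' := by
    intro z hz z' hz'
    obtain ⟨c, hc, c', hc', rfl⟩ := hnat z hz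
    obtain ⟨d, hd, d', hd', rfl⟩ := hnat z' hz'
    rw [hpr_eq c hc c' hc', hpr_eq d hd d' hd', ← hpr_eq _ (add_mem hc hd) _ (add_mem hc' hd'), map_add]
    congr 1; abel
  have hpr_C : ∀ c ∈ CZ, pr c = 0 := fun c hc => by
    simpa using hpr_eq c hc 0 CZ.zero_mem
  have hpr_w : ∀ c ∈ CZ, pr (ρ wm c) = c := fun c hc => by
    simpa using hpr_eq 0 CZ.zero_mem c hc
  have hZup : ∀ z ∈ Z, ∀ a : K, ρ (up a) z - z = sc ρ a (pr z) := by
    intro z hz a
    obtain ⟨c, hc, c', hc', rfl⟩ := hnat z hz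
    rw [hpr_eq c hc c' hc', map_add, hc.1.2, up_wm hrel a hc'.1]; abel
  have hpr_sc : ∀ (u : Kˣ), ∀ z ∈ Z, pr (sc ρ (u : K) z) = sc ρ ((u⁻¹ : Kˣ) : K) (pr z) := by
    intro u z hz
    obtain ⟨c, hc, c', hc', rfl⟩ := hnat z hz
    have h : sc ρ (u : K) (ρ wm c') = ρ wm (sc ρ ((u⁻¹ : Kˣ) : K) c') := by
      rw [wm_sc, inv_inv]
    rw [sc_map_add, h, hpr_eq c hc c' hc', hpr_eq _ (hscC _ c hc) _ (hscC _ c' hc')]
  -- `f a x = u(a) x - x` lies in `CZ`
  have hfC : ∀ x ∈ P, ∀ a : K, ρ (up a) x - x ∈ CZ := by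
    intro x hx a
    by_cases ha : a = 0
    · subst ha; rw [up_zero, app_one, sub_self]; exact CZ.zero_mem
    set z := ρ (up a) x - x with hz
    have h1 : ρ (up a) z - z = 0 := by
      rw [hz, map_sub, up_up]
      have := hZ2 z (hx a)
      rw [hz] at this
      rw [← neg_eq_zero]; rw [← this]; abel
    rw [hZup z (hx a) a] at h1
    have h0 : pr z = 0 := by
      have := congrArg (sc ρ a⁻¹) h1
      rwa [← sc_mul, inv_mul_cancel₀ ha, sc_one, sc_map_zero] at this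
    obtain ⟨c, hc, c', hc', hcz⟩ := hnat z (hx a)
    rw [← hcz, hpr_eq c hc c' hc'] at h0
    subst h0
    rw [map_zero, add_zero] at hcz
    exact hcz ▸ hc
  have h2CZ : ∀ x ∈ P, x + x ∈ CZ := by
    intro x hx
    refine ⟨⟨hZ2 _ (hM2 x), fun a => sub_eq_zero.1 ?_⟩, hM2 x⟩
    rw [map_add, add_sub_add_comm, hZ2 _ (hx a)]
  -- a complement to `Z` modulo `CZ`
  obtain ⟨X, -, hX⟩ := Finite.exists_le_maximal (α := AddSubgroup M)
    (p := fun X => CZ ≤ X ∧ X ≤ P ∧ X ⊓ Z ≤ CZ) (a := CZ) ⟨le_rfl, inf_le_right.trans hZP, inf_le_left⟩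
  obtain ⟨⟨hCX, hXP, hXZ⟩, hXmax⟩ := hX
  have hsplit : ∀ x ∈ P, ∃ z ∈ Z, x - z ∈ X := by
    intro x hx
    by_contra hcon
    push Not at hcon
    let X' : AddSubgroup M :=
      { carrier := {y | y ∈ X ∨ y - x ∈ X}
        zero_mem' := Or.inl X.zero_mem
        add_mem' := fun {y y'} hy hy' => by
          rcases hy with hy | hy <;> rcases hy' with hy' | hy'
          · exact Or.inl (X.add_mem hy hy')
          · exact Or.inr (by rw [add_sub_assoc]; exact X.add_mem hy hy')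
          · exact Or.inr (by rw [add_sub_right_comm]; exact X.add_mem hy hy')
          · refine Or.inl ?_
            have h := X.add_mem (X.add_mem hy hy') (hCX (h2CZ x hx))
            convert h using 1; abel
        neg_mem' := fun {y} hy => by
          rcases hy with hy | hy
          · exact Or.inl (X.neg_mem hy)
          · refine Or.inr ?_
            have h := X.sub_mem (X.neg_mem hy) (hCX (h2CZ x hx))
            convert h using 1; abel }
    have hle : X ≤ X' := fun y hy => Or.inl hy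
    have hX'P : X' ≤ P := by
      rintro y (hy | hy)
      · exact hXP hy
      · simpa using P.add_mem (hXP hy) hx
    have hX'Z : X' ⊓ Z ≤ CZ := by
      rintro y ⟨hy | hy, hyZ⟩
      · exact hXZ ⟨hy, hyZ⟩
      · exact absurd (by rw [← neg_sub]; exact X.neg_mem hy) (hcon y hyZ)
    have hxX : x ∈ X := hXmax (y := X') ⟨hCX.trans hle, hX'P, hX'Z⟩ hle (Or.inr (by simp))
    exact hcon 0 Z.zero_mem (by simpa using hxX)
  let r₀ : M → M := fun x => if h : ∃ z ∈ Z, x - z ∈ X then pr h.choose else 0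
  have hr₀_eq : ∀ x, ∀ z ∈ Z, x - z ∈ X → r₀ x = pr z := by
    intro x z hz hxz
    have h : ∃ z ∈ Z, x - z ∈ X := ⟨z, hz, hxz⟩
    simp only [r₀, dif_pos h]
    obtain ⟨h1, h2⟩ := h.choose_spec
    have hmem : z - h.choose ∈ CZ := hXZ ⟨by
      have := X.sub_mem h2 hxz; rwa [sub_sub_sub_cancel_left] at this, Z.sub_mem hz h1⟩
    conv_rhs => rw [← sub_add_cancel z h.choose]
    rw [hpr_add _ hmem.2 _ h1, hpr_C _ hmem, zero_add]
  have hr₀C : ∀ x, r₀ x ∈ CZ := by
    intro x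
    by_cases h : ∃ z ∈ Z, x - z ∈ X
    · simp only [r₀, dif_pos h]; exact hprC _
    · simp only [r₀, dif_neg h]; exact CZ.zero_mem
  have hr₀_add : ∀ x ∈ P, ∀ y ∈ P, r₀ (x + y) = r₀ x + r₀ y := by
    intro x hx y hy
    obtain ⟨z, hz, hxz⟩ := hsplit x hx
    obtain ⟨z', hz', hyz⟩ := hsplit y hy
    rw [hr₀_eq x z hz hxz, hr₀_eq y z' hz' hyz, ← hpr_add z hz z' hz',
      hr₀_eq (x + y) (z + z') (Z.add_mem hz hz') (by rw [add_sub_add_comm]; exact X.add_mem hxz hyz)]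
  have := Fintype.ofFinite K
  let r : M → M := fun x => ∑ u : Kˣ, sc ρ (u : K) (r₀ (sc ρ (u : K) x))
  have hrC : ∀ x, r x ∈ CZ := fun x => AddSubgroup.sum_mem _ fun u _ => hscC _ _ (hr₀C _)
  have hr_add : ∀ x ∈ P, ∀ y ∈ P, r (x + y) = r x + r y := by
    intro x hx y hy
    simp only [r, ← Finset.sum_add_distrib]
    refine Finset.sum_congr rfl fun u _ => ?_
    rw [sc_map_add, hr₀_add _ (hscP _ x hx) _ (hscP _ y hy), sc_map_add]
  have hrZ : ∀ z ∈ Z, r z = pr z := by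
    intro z hz
    have h1 : ∀ u : Kˣ, sc ρ (u : K) (r₀ (sc ρ (u : K) z)) = pr z := by
      intro u
      rw [hr₀_eq _ _ (hscZ _ z hz) (by rw [sub_self]; exact X.zero_mem), hpr_sc u z hz, ← sc_mul,
        ← Units.val_mul, mul_inv_cancel, Units.val_one, sc_one]
    simp only [r, h1, Finset.sum_const, Finset.card_univ]
    obtain ⟨k, hk⟩ : Odd (Fintype.card Kˣ) := by
      rw [Fintype.card_units]
      exact Nat.Even.sub_odd Fintype.card_pos
        (even_iff_two_dvd.2 (Nat.dvd_of_mod_eq_zero (FiniteField.even_card_of_char_two (ringChar.eq K 2)))) odd_one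
    rw [hk, succ_nsmul, mul_nsmul, two_nsmul, (hprC z).1.1, nsmul_zero, zero_add]
  have hr_sc : ∀ (v : Kˣ), ∀ x, r (sc ρ (v : K) x) = sc ρ ((v⁻¹ : Kˣ) : K) (r x) := by
    intro v x
    have hhom : sc ρ ((v⁻¹ : Kˣ) : K) (r x) =
        ∑ u : Kˣ, sc ρ ((v⁻¹ : Kˣ) : K) (sc ρ (u : K) (r₀ (sc ρ (u : K) x))) := by
      simp only [r, sc_coe]
      exact map_sum _ _ _
    rw [hhom]
    refine Fintype.sum_equiv (Equiv.mulRight v) _ _ fun u => ?_
    rw [← sc_mul, ← sc_mul, Equiv.coe_mulRight, ← Units.val_mul, ← Units.val_mul, mul_comm v⁻¹ _,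
      mul_inv_cancel_right]
  -- `D`: the invariant complement
  let D : Set M := {x | x ∈ P ∧ r x = 0}
  have hDZ : ∀ d ∈ Z, r d = 0 → d ∈ CZ := by
    intro d hd h0
    obtain ⟨c, hc, c', hc', rfl⟩ := hnat d hd
    rw [hrZ _ hd, hpr_eq c hc c' hc'] at h0
    subst h0
    rwa [map_zero, add_zero]
  set v := p - ρ wm (r p) with hv
  have hwr : ρ wm (r p) ∈ Z := hwZ _ (hrC p).2
  have hvP : v ∈ P := P.sub_mem hpP (hZP hwr)
  have hvD : v ∈ D := by
    refine ⟨hvP, ?_⟩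
    have h := hr_add v hvP _ (hZP hwr)
    rw [hv, sub_add_cancel, hrZ _ hwr, hpr_w _ (hrC p), right_eq_add] at h
    exact h
  have hscD : ∀ (a : K), ∀ x ∈ D, sc ρ a x ∈ D := by
    intro a x hx
    by_cases ha : a = 0
    · subst ha
      rw [sc_zero]
      exact ⟨P.zero_mem, by rw [hrZ 0 Z.zero_mem, hpr_C 0 CZ.zero_mem]⟩
    lift a to Kˣ using Ne.isUnit ha with u
    exact ⟨hscP _ x hx.1, by rw [hr_sc, hx.2, sc_map_zero]⟩
  have hdef : ∀ (a b : K), ∀ x ∈ D, sc ρ (a + b) x - (sc ρ a x + sc ρ b x) ∈ CZ := by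
    intro a b x hx
    have hP' : sc ρ a x + sc ρ b x ∈ P := P.add_mem (hscP a x hx.1) (hscP b x hx.1)
    have hmem : sc ρ (a + b) x - (sc ρ a x + sc ρ b x) ∈ Z := by
      have h := sc_add (rel_qrep ρ Z hinv hrel) a b (hqfix x hx.1)
      rw [sc_qrep, sc_qrep, sc_qrep, ← QuotientAddGroup.mk_add, QuotientAddGroup.eq_iff_sub_mem] at h
      exact h
    refine hDZ _ hmem ?_
    have h := hr_add _ (P.sub_mem (hscP (a + b) x hx.1) hP') _ hP'
    rw [sub_add_cancel, (hscD _ x hx).2, hr_add _ (hscP a x hx.1) _ (hscP b x hx.1), (hscD a x hx).2,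
      (hscD b x hx).2, add_zero, add_zero] at h
    exact h.symm
  let e : M → M := fun x => ρ (up (1 : K)) x - x
  have he_add : ∀ x y, e (x + y) = e x + e y := fun x y => by
    simp only [e, map_add]; abel
  have he_C : ∀ c ∈ CZ, e c = 0 := fun c hc => by simp only [e, hc.1.2, sub_self]
  have heC : ∀ x ∈ P, e x ∈ CZ := fun x hx => hfC x hx 1
  have hf_sq : ∀ (s : Kˣ) (x : M),
      ρ (up ((s : K) * s)) x - x = sc ρ (s : K) (e (sc ρ ((s⁻¹ : Kˣ) : K) x)) := by
    intro s x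
    simp only [e, sc_map_sub, sc_coe]
    rw [← app_mul, ← app_mul, ← app_mul, dg_mul, mul_inv_cancel, dg_one, app_one, dg_up, mul_one, mul_assoc,
      dg_mul, mul_inv_cancel, dg_one, mul_one]
  -- the coordinate of the defect of `u(a)` on `w v`
  have hg : ∀ (a : K), ∀ x ∈ P, ρ (up a) (ρ wm x) - ρ wm x - sc ρ a x ∈ Z := by
    intro a x hx
    have h := up_wm (rel_qrep ρ Z hinv hrel) a (hqfix x hx)
    rw [sc_qrep, qrep_mk, qrep_mk, ← QuotientAddGroup.mk_add, QuotientAddGroup.eq_iff_sub_mem] at h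
    rwa [sub_sub]
  let G : K → M → M := fun a x => pr (ρ (up a) (ρ wm x) - ρ wm x - sc ρ a x)
  have hfour : ∀ x : M, x + x + (x + x) = 0 := fun x => hZ2 _ (hM2 x)
  have hG : ∀ (α : Kˣ), ∀ u ∈ P, G (α : K) u =
      sc ρ ((α⁻¹ : Kˣ) : K) (ρ (up (α : K)) (sc ρ (α : K) u) - sc ρ (α : K) u) + (u + u) := by
    intro α u hu
    set β : K := ((α⁻¹ : Kˣ) : K) with hβ
    set x := sc ρ (α : K) u with hx
    have hxP : x ∈ P := hscP _ u hu
    have hxu : sc ρ β x = u := by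
      rw [hx, ← sc_mul, hβ, ← Units.val_mul, inv_mul_cancel, Units.val_one, sc_one]
    set g := ρ (up β) (ρ wm x) - ρ wm x - u with hgdef
    have hgZ : g ∈ Z := by
      have h := hg β x hxP
      rwa [hxu] at h
    set g' := ρ (up (α : K)) (ρ wm u) - ρ wm u - x with hg'
    have hg'Z : g' ∈ Z := hg _ u hu
    set f := ρ (up (α : K)) x - x with hf
    have hfC' : f ∈ CZ := hfC x hxP _
    have e1 : ρ (up β) (ρ wm x) = ρ wm x + u + g := by rw [hgdef]; abel
    have hlx : ρ (lo β) x = x + ρ wm u + ρ wm g := by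
      rw [lo_apply, e1, map_add, map_add, wm_wm]
    have hux : ρ (up (α : K)) x = x + f := by rw [hf]; abel
    have huwu : ρ (up (α : K)) (ρ wm u) = ρ wm u + x + g' := by rw [hg']; abel
    set δ := ρ (up (α : K)) (ρ wm g) - ρ wm g with hδ
    have hδC : δ ∈ CZ := by rw [hδ, hZup _ (hwZ g hgZ)]; exact hscC _ _ (hprC _)
    have hy := hrel _ (trace_up_mul_lo α) (ρ (lo β) (ρ (up (α : K)) x))
    rw [← hβ] at hy
    simp only [app_mul] at hy
    have hlf : ρ (lo β) f = f + ρ wm (sc ρ β f) := lo_fix hrel β hfC'.1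
    have hll : ρ (lo β) (ρ (lo β) (ρ (up (α : K)) x)) = ρ (up (α : K)) x := by
      rw [← app_mul, lo_sq, app_one]
    rw [hll, up_up, hlx, map_add, map_add, hux, map_add, hlx, hlf] at hy
    have hδ' : ρ (up (α : K)) (ρ wm g) = ρ wm g + δ := by rw [hδ]; abel
    rw [huwu, hδ'] at hy
    have hsum : g' + δ + ρ wm (u + u) + ρ wm (sc ρ β f) = 0 := by
      have h4 := hfour x
      have h2f : f + f = 0 := hfC'.1.1
      have h2g : ρ wm g + ρ wm g = 0 := hZ2 _ (hwZ g hgZ)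
      rw [map_add]
      rw [← hy]
      calc g' + δ + (ρ wm u + ρ wm u) + ρ wm (sc ρ β f)
          = g' + δ + (ρ wm u + ρ wm u) + ρ wm (sc ρ β f) + (x + x + (x + x)) + (f + f) +
            (ρ wm g + ρ wm g) := by rw [h4, h2f, h2g, add_zero, add_zero, add_zero]
        _ = _ := by abel
    have h2u : u + u ∈ CZ := h2CZ u hu
    have hβf : sc ρ β f ∈ CZ := hscC _ _ hfC'
    have hZ1 : g' + δ ∈ Z := Z.add_mem hg'Z hδC.2
    have hZ2' : g' + δ + ρ wm (u + u) ∈ Z := Z.add_mem hZ1 (hwZ _ h2u.2)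
    have hpr0 := congrArg pr hsum
    rw [hpr_add _ hZ2' _ (hwZ _ hβf.2), hpr_add _ hZ1 _ (hwZ _ h2u.2), hpr_add _ hg'Z _ hδC.2,
      hpr_C δ hδC, hpr_w _ h2u, hpr_w _ hβf, hpr_C 0 CZ.zero_mem, add_zero] at hpr0
    show pr g' = sc ρ β f + (u + u)
    have : pr g' = -(sc ρ β f + (u + u)) := by
      rw [eq_neg_iff_add_eq_zero, ← hpr0]; abel
    rw [this]
    exact neg_eq_of_add_eq_zero_left ((add_mem hβf h2u : sc ρ β f + (u + u) ∈ CZ).1.1)
  have hG_add : ∀ a b : K, G (a + b) v = G a v + G b v := by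
    intro a b
    set ga := ρ (up a) (ρ wm v) - ρ wm v - sc ρ a v with hga
    set gb := ρ (up b) (ρ wm v) - ρ wm v - sc ρ b v with hgb
    have hgaZ : ga ∈ Z := hg a v hvP
    have hgbZ : gb ∈ Z := hg b v hvP
    have h1 : ρ (up (a + b)) (ρ wm v) - ρ wm v - sc ρ (a + b) v = ga + gb +
        ((ρ (up a) (sc ρ b v) - sc ρ b v) + (ρ (up a) gb - gb) - (sc ρ (a + b) v - (sc ρ a v + sc ρ b v))) := by
      rw [up_add, show ρ (up b) (ρ wm v) = ρ wm v + sc ρ b v + gb by rw [hgb]; abel, map_add, map_add,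
        show ρ (up a) (ρ wm v) = ρ wm v + sc ρ a v + ga by rw [hga]; abel]
      abel
    have hC1 : (ρ (up a) (sc ρ b v) - sc ρ b v) + (ρ (up a) gb - gb) -
        (sc ρ (a + b) v - (sc ρ a v + sc ρ b v)) ∈ CZ := by
      refine sub_mem (add_mem (hfC _ (hscP b v hvP) a) ?_) (hdef a b v hvD)
      rw [hZup gb hgbZ a]; exact hscC _ _ (hprC _)
    show pr (ρ (up (a + b)) (ρ wm v) - ρ wm v - sc ρ (a + b) v) = pr ga + pr gb
    rw [h1, hpr_add _ (Z.add_mem hgaZ hgbZ) _ hC1.2, hpr_add _ hgaZ _ hgbZ, hpr_C _ hC1, add_zero]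
  -- everything in the `K`-module `fix₂`
  let E : K → ↥(fix₂ ρ) := fun t => ⟨e (sc ρ t v), (heC _ (hscP t v hvP)).1⟩
  set ev : ↥(fix₂ ρ) := ⟨e v, (heC v hvP).1⟩ with hev
  set S : ↥(fix₂ ρ) := ⟨v + v, (h2CZ v hvP).1⟩ with hS
  have hE1 : E 1 = ev := Subtype.ext (congrArg e (sc_one ρ v))
  have hE_add : ∀ a b, E (a + b) = E a + E b := by
    intro a b
    refine Subtype.ext ?_
    show e (sc ρ (a + b) v) = e (sc ρ a v) + e (sc ρ b v)
    conv_lhs => rw [← sub_add_cancel (sc ρ (a + b) v) (sc ρ a v + sc ρ b v)]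
    rw [he_add, he_C _ (hdef a b v hvD), zero_add, he_add]
  have two : ∀ x : ↥(fix₂ ρ), x + x = 0 := fun x => Subtype.ext x.2.1
  have hφ : ∀ s : Kˣ, G ((s : K) * s) v = (((s : K)⁻¹ • E (s : K) + S : ↥(fix₂ ρ)) : M) := by
    intro s
    have h := hG (s * s) v hvP
    rw [Units.val_mul] at h
    rw [h, hf_sq]
    show sc ρ _ (sc ρ _ (e _)) + (v + v) = sc ρ (s : K)⁻¹ (e (sc ρ (s : K) v)) + (v + v)
    congr 1
    rw [← sc_mul, ← sc_mul]
    congr 2
    · push_cast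
      field_simp
    · congr 1
      push_cast
      field_simp
  have hquad : ∀ t : K, t ≠ 0 → t ≠ 1 → E t = (t * t) • (ev + S) + t • S := by
    intro t ht ht1
    have h1t : 1 + t ≠ 0 := fun h => ht1 (CharTwo.add_eq_zero.1 h).symm
    have h := hG_add ((1 : K) * 1) (t * t)
    rw [one_mul, show (1 : K) + t * t = (1 + t) * (1 + t) by
      linear_combination (norm := ring_nf) -t * two_eq_zero (K := K)] at h
    have e1 := hφ (Units.mk0 _ h1t)
    have e2 := hφ (Units.mk0 _ ht)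
    have e3 := hφ 1
    simp only [Units.val_mk0, Units.val_one, mul_one, inv_one, one_smul] at e1 e2 e3
    rw [e1, e2, e3] at h
    have h' : (1 + t)⁻¹ • E (1 + t) + S = (E 1 + S) + (t⁻¹ • E t + S) := Subtype.ext h
    rw [hE_add, hE1] at h'
    have hkey : E t = (t * (1 + t)) • ((1 + t)⁻¹ • (ev + E t) + S) + (t * (1 + t)) • (ev + t⁻¹ • E t) +
        ((t * t) • (ev + S) + t • S) := by
      match_scalars
      all_goals field_simp
      all_goals ring_nf
      all_goals simp [two_eq_zero]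
    rw [hkey, h', show (ev + S + (t⁻¹ • E t + S)) = ev + t⁻¹ • E t + (S + S) by abel, two, add_zero, two, zero_add]
  have hE : ∀ t : K, t ≠ 0 → E t = (t * t) • (ev + S) + t • S := by
    intro t ht
    by_cases ht1 : t = 1
    · subst ht1
      rw [hE1, one_mul, one_smul, one_smul, add_assoc, two, add_zero]
    · exact hquad t ht ht1
  -- `u(s²) v - v = s⁻¹ • (e + S) + S`
  have hf : ∀ s : Kˣ, ρ (up ((s : K) * s)) v - v = (((s : K)⁻¹ • (ev + S) + S : ↥(fix₂ ρ)) : M) := by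
    intro s
    have hs0 := s.ne_zero
    rw [hf_sq]
    have h := congrArg (fun c : ↥(fix₂ ρ) => (((s : K) • c : ↥(fix₂ ρ)) : M))
      (hE ((s : K)⁻¹) (inv_ne_zero hs0))
    rw [Units.val_inv_eq_inv_val]
    refine h.trans (congrArg Subtype.val ?_)
    rw [smul_add, smul_smul, smul_smul, mul_inv_cancel₀ hs0, one_smul, ← mul_assoc, mul_inv_cancel₀ hs0, one_mul]
  have hc : ∀ t : K, t ≠ 0 → t ≠ 1 → ((1 + t)⁻¹ + 1 + t⁻¹) • (ev + S) = S := by
    intro t ht ht1
    have h1t : 1 + t ≠ 0 := fun h => ht1 (CharTwo.add_eq_zero.1 h).symm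
    have e1 := hf (Units.mk0 _ h1t)
    have e2 := hf (Units.mk0 _ ht)
    have e3 := hf 1
    simp only [Units.val_mk0, Units.val_one, mul_one, inv_one, one_smul] at e1 e2 e3
    have hsum : ρ (up ((1 + t) * (1 + t))) v - v = (ρ (up (1 : K)) v - v) + (ρ (up (t * t)) v - v) := by
      rw [show (1 + t) * (1 + t) = 1 + t * t by
        linear_combination (norm := ring_nf) t * two_eq_zero (K := K), up_add]
      have hx : ρ (up (t * t)) v - v ∈ CZ := hfC v hvP _
      have h := hx.1.2 1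
      rw [map_sub, sub_eq_iff_eq_add] at h
      rw [h]; abel
    rw [e1, e2, e3] at hsum
    have h' : (1 + t)⁻¹ • (ev + S) + S = (ev + S + S) + (t⁻¹ • (ev + S) + S) := Subtype.ext hsum
    have hk : ((1 + t)⁻¹ + 1 + t⁻¹) • (ev + S) =
        ((1 + t)⁻¹ • (ev + S) + S) + ((ev + S + S) + (t⁻¹ • (ev + S) + S)) + S + (S + S) := by
      rw [add_smul, add_smul, one_smul]
      have h2 := two S
      calc (1 + t)⁻¹ • (ev + S) + (ev + S) + t⁻¹ • (ev + S)
          = (1 + t)⁻¹ • (ev + S) + (ev + S) + t⁻¹ • (ev + S) + ((S + S) + (S + S) + (S + S)) := by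
            rw [h2, add_zero, add_zero, add_zero]
        _ = _ := by abel
    rw [hk, h', two, two, zero_add, add_zero]
  obtain ⟨t₀, ht0, ht1⟩ : ∃ t : K, t ≠ 0 ∧ t ≠ 1 := by
    by_contra hcon
    push Not at hcon
    have : (Finset.univ : Finset K) ⊆ {0, 1} := fun t _ => by
      rcases eq_or_ne t 0 with h | h
      · simp [h]
      · simp [hcon t h]
    have := (Finset.card_le_card this).trans Finset.card_le_two
    rw [Finset.card_univ, ← Nat.card_eq_fintype_card] at this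
    omega
  have hS_zero : (S : ↥(fix₂ ρ)) = 0 ∧ ((∀ t : K, t ≠ 0 → t ≠ 1 → t * t + t + 1 = 0) ∨ ev = 0) := by
    by_cases hall : ∀ t : K, t ≠ 0 → t ≠ 1 → t * t + t + 1 = 0
    · refine ⟨?_, Or.inl hall⟩
      have h := hc t₀ ht0 ht1
      have h1t : 1 + t₀ ≠ 0 := fun h => ht1 (CharTwo.add_eq_zero.1 h).symm
      have hzero : (1 + t₀)⁻¹ + 1 + t₀⁻¹ = 0 := by
        field_simp
        linear_combination (norm := ring_nf) hall t₀ ht0 ht1 + t₀ * two_eq_zero (K := K)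
      rw [hzero, zero_smul] at h
      exact h.symm
    · push Not at hall
      obtain ⟨t, ht, ht', hroot⟩ := hall
      have htt : t * t ≠ 0 := mul_ne_zero ht ht
      have htt' : t * t ≠ 1 := fun h => ht' (by
        have : (t + 1) * (t + 1) = 0 := by linear_combination (norm := ring_nf) h + (t + 1) * two_eq_zero (K := K)
        exact CharTwo.add_eq_zero.1 (mul_self_eq_zero.1 this))
      have h := (hc t ht ht').trans (hc (t * t) htt htt').symm
      rw [← sub_eq_zero, ← sub_smul, smul_eq_zero] at h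
      have h1t : 1 + t ≠ 0 := fun h => ht' (CharTwo.add_eq_zero.1 h).symm
      have h1tt : 1 + t * t ≠ 0 := fun h => htt' (CharTwo.add_eq_zero.1 h).symm
      rcases h with h | h
      · exfalso
        set A := (1 + t)⁻¹ + 1 + t⁻¹
        set B := (1 + t * t)⁻¹ + 1 + (t * t)⁻¹
        have hA : A * (t * (1 + t)) = t * t + t + 1 := by
          simp only [A]
          linear_combination (norm := ring_nf) t * inv_mul_cancel₀ h1t + (1 + t) * inv_mul_cancel₀ ht +
            t * two_eq_zero (K := K)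
        have hB : B * (t * t * (1 + t * t)) = t * t * (t * t) + t * t + 1 := by
          simp only [B]
          linear_combination (norm := ring) t * t * inv_mul_cancel₀ h1tt + (1 + t * t) * inv_mul_cancel₀ htt +
            t * t * two_eq_zero (K := K)
        have : t * (t + 1) * (t * t + t + 1) = 0 := by
          linear_combination (norm := ring_nf) (t * (1 + t) * (t * t * (1 + t * t))) * h
            - (t * t * (1 + t * t)) * hA + (t * (1 + t)) * hB
          simp [two_eq_zero]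
          try ring_nf
        rcases mul_eq_zero.1 this with h' | h'
        · rcases mul_eq_zero.1 h' with h'' | h''
          · exact ht h''
          · exact h1t (by rw [add_comm]; exact h'')
        · exact hroot h'
      · have hS0 : S = 0 := by rw [← hc t ht ht', h, smul_zero]
        exact ⟨hS0, Or.inr (by rwa [hS0, add_zero] at h)⟩
  obtain ⟨hS0, hcases⟩ := hS_zero
  have hvv : v + v = 0 := congrArg Subtype.val hS0
  have hwr2 : ρ wm (r p) + ρ wm (r p) = 0 := hZ2 _ hwr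
  have hp2 : p + p = 0 := by
    rw [show p + p = v + v + (ρ wm (r p) + ρ wm (r p)) by rw [hv]; abel, hvv, hwr2, add_zero]
  refine ⟨hp2, ρ wm (e v) - ρ wm (r p), Z.sub_mem (hwZ _ (heC v hvP).2) hwr, ?_⟩
  rw [show p + (ρ wm (e v) - ρ wm (r p)) = v + ρ wm (e v) by rw [hv]; abel]
  refine ⟨by rw [add_add_add_comm, hvv, hZ2 _ (hwZ _ (heC v hvP).2), add_zero], fun a => ?_⟩
  by_cases ha : a = 0
  · rw [ha, up_zero, app_one]
  obtain ⟨s, rfl⟩ := FiniteField.isSquare_of_char_two (ringChar.eq K 2) a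
  have hs0 : s ≠ 0 := fun h => ha (by rw [h, zero_mul])
  have h := hf (Units.mk0 s hs0)
  rw [Units.val_mk0, hS0, add_zero, add_zero] at h
  have hcz : (s⁻¹ • ev + (s * s) • ev : ↥(fix₂ ρ)) = 0 := by
    rcases hcases with hall | hev0
    · have hs3 : s⁻¹ + s * s = 0 := by
        by_cases hs1 : s = 1
        · subst hs1; rw [inv_one, one_mul]; exact one_add_one
        · field_simp
          linear_combination (norm := ring_nf) (s - 1) * hall s hs0 hs1 + two_eq_zero (K := K)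
      rw [← add_smul, hs3, zero_smul]
    · rw [hev0, smul_zero, smul_zero, add_zero]
  rw [map_add, up_wm hrel _ (heC v hvP).1, show ρ (up (s * s)) v = v + (ρ (up (s * s)) v - v) by abel, h]
  have hcz' : ((s⁻¹ • ev : ↥(fix₂ ρ)) : M) + sc ρ (s * s) (e v) = 0 := congrArg Subtype.val hcz
  calc v + ((s⁻¹ • ev : ↥(fix₂ ρ)) : M) + (ρ wm (e v) + sc ρ (s * s) (e v))
      = v + ρ wm (e v) + (((s⁻¹ • ev : ↥(fix₂ ρ)) : M) + sc ρ (s * s) (e v)) := by abel
    _ = v + ρ wm (e v) := by rw [hcz', add_zero]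

/-- An elementary abelian `Rel` module is `C + w C`. -/
theorem nat₂_eq_top [Finite K] [Finite M] (hK : 4 ≤ Nat.card K) (hrel : Rel ρ) (h2 : ∀ m : M, m + m = 0) :
    nat₂ ρ = ⊤ := by
  by_contra hne
  obtain ⟨m₀, hm₀⟩ : ∃ m, m ∉ nat₂ ρ := by
    by_contra hcon
    push Not at hcon
    exact hne (AddSubgroup.eq_top_iff' _ |>.2 hcon)
  set W := nat₂ ρ with hW
  set σ := qrep ρ W (invariant_nat₂ hrel)
  let act : MulAction (Multiplicative K) (M ⧸ W) :=
    { smul := fun a m => σ (up a.toAdd) m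
      one_smul := fun m => by
        show σ (up (0 : K)) m = m
        rw [up_zero]; exact app_one σ m
      mul_smul := fun a b m => up_add σ a.toAdd b.toAdd m }
  have : Fact (Nat.Prime 2) := ⟨Nat.prime_two⟩
  have hKp : IsPGroup 2 (Multiplicative K) := fun a =>
    ⟨1, by rw [pow_one, pow_two]; exact Multiplicative.toAdd.injective (CharTwo.add_self_eq_zero a.toAdd)⟩
  have h0 : (0 : M ⧸ W) ∈ MulAction.fixedPoints (Multiplicative K) (M ⧸ W) := fun a => map_zero (σ (up a.toAdd))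
  have hne0 : (m₀ : M ⧸ W) ≠ 0 := fun h => hm₀ ((QuotientAddGroup.eq_zero_iff _).1 h)
  have hdvd : 2 ∣ Nat.card (M ⧸ W) := by
    have ho : addOrderOf (m₀ : M ⧸ W) = 2 := by
      refine addOrderOf_eq_prime ?_ hne0
      rw [two_nsmul, ← QuotientAddGroup.mk_add, h2]; rfl
    exact ho ▸ addOrderOf_dvd_natCard _
  obtain ⟨x, hx, hx0⟩ := hKp.exists_fixed_point_of_prime_dvd_card_of_fixed_point (M ⧸ W) hdvd h0
  induction x using QuotientAddGroup.induction_on with | H p => ?_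
  have hp : ∀ a : K, ρ (up a) p - p ∈ W := fun a =>
    QuotientAddGroup.eq_iff_sub_mem.1 (hx (Multiplicative.ofAdd a))
  obtain ⟨-, z, hz, hpz⟩ := lift_fixed hK hrel W (invariant_nat₂ hrel) (fun z _ => h2 z)
    (fun m => by rw [h2]; exact W.zero_mem)
    (fun z hz => by
      obtain ⟨c, hc, c', hc', e⟩ := mem_nat₂.1 hz
      exact ⟨c, ⟨hc, AddSubgroup.mem_sup_left hc⟩, c', ⟨hc', AddSubgroup.mem_sup_left hc'⟩, e⟩) hp
  refine hx0 ((QuotientAddGroup.eq_zero_iff _).2 ?_).symm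
  have := W.sub_mem (AddSubgroup.mem_sup_left hpz : p + z ∈ W) hz
  rwa [add_sub_cancel_right] at this

/-- No module of exponent four has two natural layers. -/
theorem two_torsion_of_layer [Finite K] [Finite M] (hK : 4 ≤ Nat.card K) (hrel : Rel ρ) (Z : AddSubgroup M)
    (hinv : ∀ g, ∀ z ∈ Z, ρ g z ∈ Z) (hZ2 : ∀ z ∈ Z, z + z = 0) (hM2 : ∀ m : M, m + m ∈ Z) :
    ∀ m : M, m + m = 0 := by
  let σ : Matrix.SpecialLinearGroup (Fin 2) K →* AddMonoid.End ↥Z :=
    { toFun := fun g => ((ρ g).comp Z.subtype).codRestrict Z fun z => hinv g z z.2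
      map_one' := AddMonoidHom.ext fun z => Subtype.ext (app_one ρ z)
      map_mul' := fun g h => AddMonoidHom.ext fun z => Subtype.ext (app_mul ρ g h z) }
  have hσ : nat₂ σ = ⊤ := nat₂_eq_top hK
    (fun g hg z => Subtype.ext (hrel g hg z)) fun z => Subtype.ext (hZ2 z z.2)
  have hnat : ∀ z ∈ Z, ∃ c ∈ fix₂ ρ ⊓ Z, ∃ c' ∈ fix₂ ρ ⊓ Z, c + ρ wm c' = z := by
    intro z hz
    obtain ⟨c, hc, c', hc', e⟩ := mem_nat₂.1 (hσ.ge (AddSubgroup.mem_top (⟨z, hz⟩ : ↥Z)))
    have hmem : ∀ d : ↥Z, d ∈ fix₂ σ → (d : M) ∈ fix₂ ρ ⊓ Z := fun d hd =>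
      ⟨⟨congrArg Subtype.val hd.1, fun a => congrArg Subtype.val (hd.2 a)⟩, d.2⟩
    exact ⟨c, hmem c hc, c', hmem c' hc', congrArg Subtype.val e⟩
  have hq : ∀ q : M ⧸ Z, q + q = 0 := fun q => by
    induction q using QuotientAddGroup.induction_on with | H m => ?_
    rw [← QuotientAddGroup.mk_add]; exact (QuotientAddGroup.eq_zero_iff _).2 (hM2 m)
  have htop := nat₂_eq_top hK (rel_qrep ρ Z hinv hrel) hq
  intro m
  obtain ⟨c, hc, c', hc', e⟩ := mem_nat₂.1 (htop.ge (AddSubgroup.mem_top (m : M ⧸ Z)))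
  obtain ⟨x, rfl⟩ := QuotientAddGroup.mk_surjective c
  obtain ⟨y, rfl⟩ := QuotientAddGroup.mk_surjective c'
  have key : ∀ x : M, (x : M ⧸ Z) ∈ fix₂ (qrep ρ Z hinv) → x + x = 0 := fun x hx =>
    (lift_fixed hK hrel Z hinv hZ2 hM2 hnat fun a => QuotientAddGroup.eq_iff_sub_mem.1 (hx.2 a)).1
  rw [qrep_mk, ← QuotientAddGroup.mk_add, QuotientAddGroup.eq_iff_sub_mem] at e
  have hz := hZ2 _ e
  have h1 : ρ wm y + ρ wm y = 0 := by rw [← map_add, key y hc', map_zero]
  calc m + m = (x + x) + (ρ wm y + ρ wm y) - (x + ρ wm y - m + (x + ρ wm y - m)) := by abel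
    _ = 0 := by rw [key x hc, h1, hz, add_zero, sub_zero]

end Cfsg.Agent.SL2Module
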