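import Cfsg.Agent.EqLemmas

/-!
`SL₂(K)` in characteristic two: the matrices `up`, `lo`, `dg`, `wm`, generation by `up` and `wm`
(`closure_eq_top`), and conjugacy of the elements of trace one (`exists_conj_of_trace_one`).
-/

set_option autoImplicit false
set_option linter.unusedSectionVars false
set_option linter.unusedSimpArgs false

open Matrix

namespace Cfsg.Agent.SL2Module

variable {K : Type*} [Field K] [CharP K 2]

local notation "SL" => Matrix.SpecialLinearGroup (Fin 2) K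

/-- `[[1, a], [0, 1]]`. -/
def up (a : K) : SL := ⟨!![1, a; 0, 1], by simp [Matrix.det_fin_two_of]⟩

/-- `[[1, 0], [a, 1]]`. -/
def lo (a : K) : SL := ⟨!![1, 0; a, 1], by simp [Matrix.det_fin_two_of]⟩

/-- `diag(a, a⁻¹)`. -/
def dg (a : Kˣ) : SL := ⟨!![(a : K), 0; 0, ((a⁻¹ : Kˣ) : K)], by simp [Matrix.det_fin_two_of]⟩

/-- `[[0, 1], [1, 0]]`. -/
def wm : SL := ⟨!![0, 1; 1, 0], by simp [Matrix.det_fin_two_of, CharTwo.neg_eq]⟩

theorem up_val (a : K) : (up a : SL).1 = !![1, a; 0, 1] := rfl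

theorem lo_val (a : K) : (lo a : SL).1 = !![1, 0; a, 1] := rfl

theorem dg_val (a : Kˣ) : (dg a : SL).1 = !![(a : K), 0; 0, ((a⁻¹ : Kˣ) : K)] := rfl

theorem wm_val : (wm : SL).1 = !![0, 1; 1, 0] := rfl

theorem val_mul (x y : SL) : (x * y).1 = x.1 * y.1 := rfl

theorem val_one : (1 : SL).1 = 1 := rfl

theorem two_eq_zero : (2 : K) = 0 := CharTwo.two_eq_zero

theorem one_add_one : (1 : K) + 1 = 0 := CharTwo.add_self_eq_zero 1

theorem up_zero : up (0 : K) = 1 := by
  apply Subtype.ext; simp [up_val, Matrix.one_fin_two, SpecialLinearGroup.coe_mul, SpecialLinearGroup.coe_one]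

theorem up_mul (a b : K) : up a * up b = up (a + b) := by
  apply Subtype.ext; simp [up_val, Matrix.mul_fin_two, add_comm, SpecialLinearGroup.coe_mul, SpecialLinearGroup.coe_one]

theorem up_sq (a : K) : up a * up a = 1 := by rw [up_mul, CharTwo.add_self_eq_zero, up_zero]

theorem lo_mul (a b : K) : lo a * lo b = lo (a + b) := by
  apply Subtype.ext; simp [lo_val, Matrix.mul_fin_two, SpecialLinearGroup.coe_mul, SpecialLinearGroup.coe_one]

theorem lo_sq (a : K) : lo a * lo a = 1 := by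
  apply Subtype.ext; simp [lo_val, Matrix.mul_fin_two, CharTwo.add_self_eq_zero, Matrix.one_fin_two, SpecialLinearGroup.coe_mul, SpecialLinearGroup.coe_one]

theorem wm_sq : (wm : SL) * wm = 1 := by
  apply Subtype.ext; simp [wm_val, Matrix.mul_fin_two, Matrix.one_fin_two, SpecialLinearGroup.coe_mul, SpecialLinearGroup.coe_one]

theorem wm_conj_up (a : K) : wm * up a * wm = lo a := by
  apply Subtype.ext; simp [wm_val, up_val, lo_val, Matrix.mul_fin_two, SpecialLinearGroup.coe_mul, SpecialLinearGroup.coe_one]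

theorem dg_mul (a b : Kˣ) : dg a * dg b = dg (a * b) := by
  apply Subtype.ext; simp [dg_val, Matrix.mul_fin_two, mul_comm, SpecialLinearGroup.coe_mul, SpecialLinearGroup.coe_one]

theorem dg_one : dg (1 : Kˣ) = (1 : SL) := by
  apply Subtype.ext; simp [dg_val, Matrix.one_fin_two, SpecialLinearGroup.coe_mul, SpecialLinearGroup.coe_one]

theorem dg_up (a : Kˣ) (b : K) : dg a * up b = up ((a : K) * a * b) * dg a := by
  apply Subtype.ext
  simp [dg_val, up_val, Matrix.mul_fin_two, SpecialLinearGroup.coe_mul, SpecialLinearGroup.coe_one]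
  field_simp

theorem wm_dg (a : Kˣ) : wm * dg a = dg a⁻¹ * wm := by
  apply Subtype.ext; simp [dg_val, wm_val, Matrix.mul_fin_two, SpecialLinearGroup.coe_mul, SpecialLinearGroup.coe_one]

/-- `w_a = u(a) l(a⁻¹) u(a)`. -/
theorem up_lo_up (a : Kˣ) : up (a : K) * lo ((a⁻¹ : Kˣ) : K) * up (a : K) = dg a * wm := by
  apply Subtype.ext
  simp [up_val, lo_val, dg_val, wm_val, Matrix.mul_fin_two, one_add_one, SpecialLinearGroup.coe_mul, SpecialLinearGroup.coe_one]

theorem trace_up_mul_lo (a : Kˣ) : Matrix.trace (up (a : K) * lo ((a⁻¹ : Kˣ) : K) : SL).1 = 1 := by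
  simp [up_val, lo_val, Matrix.trace_fin_two, one_add_one, SpecialLinearGroup.coe_mul, SpecialLinearGroup.coe_one]

/-- `SL₂(K)` is generated by the upper unitriangular matrices and `wm`. -/
theorem closure_eq_top : Subgroup.closure (Set.range (up : K → SL) ∪ {wm}) = ⊤ := by
  set H := Subgroup.closure (Set.range (up : K → SL) ∪ {wm}) with hH
  have hu : ∀ a, up a ∈ H := fun a => Subgroup.subset_closure (Or.inl ⟨a, rfl⟩)
  have hw : (wm : SL) ∈ H := Subgroup.subset_closure (Or.inr rfl)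
  have hl : ∀ a, lo a ∈ H := fun a => wm_conj_up a ▸ mul_mem (mul_mem hw (hu a)) hw
  have hd : ∀ a : Kˣ, dg a ∈ H := fun a => by
    have h := mul_mem (mul_mem (mul_mem (hu (a : K)) (hl ((a⁻¹ : Kˣ) : K))) (hu (a : K))) hw
    rwa [up_lo_up, mul_assoc, wm_sq, mul_one] at h
  rw [eq_top_iff]
  intro g _
  have hdet : g.1 0 0 * g.1 1 1 - g.1 0 1 * g.1 1 0 = 1 := by rw [← Matrix.det_fin_two]; exact g.2
  by_cases hc : g.1 1 0 = 0
  · rw [hc, mul_zero, sub_zero] at hdet
    set a : Kˣ := Units.mkOfMulEqOne _ _ hdet with ha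
    have h11 : (g.1 0 0)⁻¹ = g.1 1 1 := inv_eq_of_mul_eq_one_right hdet
    have : g = up (g.1 0 1 * g.1 0 0) * dg a := by
      apply Subtype.ext
      ext i j
      fin_cases i <;> fin_cases j <;> simp [up_val, dg_val, a, hc, h11, Matrix.mul_fin_two, SpecialLinearGroup.coe_mul, SpecialLinearGroup.coe_one] <;>
        linear_combination (norm := ring_nf) - g.1 0 1 * hdet
    rw [this]
    exact mul_mem (hu _) (hd _)
  · set c : Kˣ := Units.mk0 _ hc with hc'
    have : g = up (g.1 0 0 / g.1 1 0) * wm * dg c * up (g.1 1 1 / g.1 1 0) := by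
      apply Subtype.ext
      ext i j
      fin_cases i <;> fin_cases j <;> simp [up_val, dg_val, wm_val, c, Matrix.mul_fin_two, SpecialLinearGroup.coe_mul, SpecialLinearGroup.coe_one] <;> field_simp
      rw [← sub_eq_zero]
      linear_combination (norm := ring_nf) -hdet
      simp [two_eq_zero]
    rw [this]
    exact mul_mem (mul_mem (mul_mem (hu _) hw) (hd _)) (hu _)

/-- In a finite field of characteristic two the elements of trace one form one class. -/
theorem exists_conj_of_trace_one [Finite K] {g h : SL} (hg : Matrix.trace g.1 = 1) (hh : Matrix.trace h.1 = 1) :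
    ∃ c : SL, c * g * c⁻¹ = h := by
  have key : ∀ g : SL, Matrix.trace g.1 = 1 → ∃ P : SL, g.1 * P.1 = P.1 * !![0, 1; 1, 1] := by
    intro g hg
    have htr : g.1 1 1 = g.1 0 0 + 1 := by
      rw [Matrix.trace_fin_two] at hg
      linear_combination (norm := ring_nf) hg - two_eq_zero (K := K) * g.1 0 0
    have hdet : g.1 0 0 * g.1 1 1 - g.1 0 1 * g.1 1 0 = 1 := by rw [← Matrix.det_fin_two]; exact g.2
    obtain ⟨v₀, v₁, hd⟩ : ∃ v₀ v₁ : K,
        v₀ * (g.1 1 0 * v₀ + g.1 1 1 * v₁) - (g.1 0 0 * v₀ + g.1 0 1 * v₁) * v₁ ≠ 0 := by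
      by_contra hc
      push Not at hc
      have h1 := hc 1 0
      have h2 := hc 0 1
      have h3 := hc 1 1
      simp only [mul_one, mul_zero, one_mul, zero_mul, add_zero, zero_add, sub_zero, zero_sub,
        neg_eq_zero] at h1 h2 h3
      rw [h1, h2, htr] at h3
      exact one_ne_zero (show (1 : K) = 0 by linear_combination h3)
    set d := v₀ * (g.1 1 0 * v₀ + g.1 1 1 * v₁) - (g.1 0 0 * v₀ + g.1 0 1 * v₁) * v₁ with hd'
    obtain ⟨r, hr⟩ := FiniteField.isSquare_of_char_two (ringChar.eq K 2) d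
    have hr0 : r ≠ 0 := fun e => hd (by rw [hr, e, mul_zero])
    refine ⟨⟨!![v₀ / r, (g.1 0 0 * v₀ + g.1 0 1 * v₁) / r; v₁ / r, (g.1 1 0 * v₀ + g.1 1 1 * v₁) / r], ?_⟩, ?_⟩
    · rw [Matrix.det_fin_two_of]
      field_simp
      linear_combination hr
    · show g.1 * !![_, _; _, _] = !![_, _; _, _] * !![0, 1; 1, 1]
      rw [Matrix.eta_fin_two g.1]
      simp only [Matrix.mul_fin_two]
      ext i j
      fin_cases i <;> fin_cases j <;> simp <;> field_simp
      · linear_combination (norm := ring_nf) (g.1 0 1 * v₁ + g.1 0 0 * v₀) * htr - v₀ * hdet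
        simp [two_eq_zero]
      · linear_combination (norm := ring_nf) (g.1 1 0 * v₀ + g.1 1 1 * v₁) * htr - v₁ * hdet
        simp [two_eq_zero]
  obtain ⟨P, hP⟩ := key g hg
  obtain ⟨Q, hQ⟩ := key h hh
  refine ⟨Q * P⁻¹, Subtype.ext ?_⟩
  set T : Matrix (Fin 2) (Fin 2) K := !![0, 1; 1, 1] with hT
  have e1 : (P⁻¹ * g * P : SL).1 = T := by
    calc (P⁻¹ * g * P : SL).1 = (P⁻¹ : SL).1 * (g.1 * P.1) := by rw [val_mul, val_mul, mul_assoc]
      _ = ((P⁻¹ : SL) * P : SL).1 * T := by rw [hP, val_mul, mul_assoc]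
      _ = T := by rw [inv_mul_cancel, val_one, one_mul]
  calc (Q * P⁻¹ * g * (Q * P⁻¹)⁻¹ : SL).1 = (Q * (P⁻¹ * g * P) * Q⁻¹ : SL).1 := by
        rw [_root_.mul_inv_rev, inv_inv]; simp only [mul_assoc]
    _ = Q.1 * T * (Q⁻¹ : SL).1 := by rw [val_mul, val_mul, e1]
    _ = h.1 * (Q * Q⁻¹ : SL).1 := by rw [val_mul, ← hQ, mul_assoc]
    _ = h.1 := by rw [mul_inv_cancel, val_one, mul_one]

end Cfsg.Agent.SL2Module
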